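import Cfsg.Agent.H91.RO.Basic
import Cfsg.Agent.H10.Walter.Setting
import Cfsg.Agent.H35.JT.PSL
import Cfsg.Agent.Linear.Dickson.Orders
import Cfsg.Agent.H54.JFour.Classes.Prime
import Cfsg.Agent.S2119
import Cfsg.Agent.S0253
import Cfsg.Agent.S0448

/-!
# Simple groups with central intersections of rank one: abelian Sylow 2-subgroups

In a group of type R with `Uniq` the field has five elements and the centraliser of an involution is
`C₂ × A₅`: with more than five elements an involution of `E₀` lies in two Sylow 2-subgroups.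
-/

set_option autoImplicit false
set_option linter.style.haveILetI false
set_option linter.unusedSectionVars false

namespace Cfsg.Agent.H91.RO

open Subgroup Cfsg.Agent
open Cfsg.Agent.Linear Cfsg.Agent.Linear.Dickson
open Cfsg.Agent.H10.Walter (AbSyl IsTypeR IsOddPSL)
open scoped Pointwise

local instance fact_two_roAbelian : Fact (Nat.Prime 2) := ⟨Nat.prime_two⟩

section Torus

variable {F : Type*} [Field F] [Fintype F]

local notation "M2" => Matrix (Fin 2) (Fin 2) F
local notation "S2" => Matrix.SpecialLinearGroup (Fin 2) F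
local notation "P2" => Matrix.ProjectiveSpecialLinearGroup (Fin 2) F

/-- Only the torus commutes with an element whose square is not trivial. -/
theorem mem_cen_of_commute_of_sq (h2 : (2 : F) ≠ 0) {k a : P2} (hk : k * k ≠ 1) (h : a * k = k * a) :
    a ∈ cen k := by
  obtain ⟨H, rfl⟩ := proj_surjective k
  obtain ⟨y, rfl⟩ := proj_surjective a
  rw [mem_cen_proj, mem_centralizer_singleton_iff]
  rw [← map_mul, ← map_mul, proj_eq_iff] at h
  rcases h with h | h
  · exact h.symm
  · exfalso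
    refine hk ?_
    have e : y * H * y⁻¹ = -H := by
      rw [show y * H = -(H * y) by rw [h, neg_neg], neg_mul, mul_inv_cancel_right]
    have e' := trace_conj H y
    rw [e, Matrix.SpecialLinearGroup.coe_neg, Matrix.trace_neg] at e'
    have h0 : (H : M2).trace = 0 := (mul_eq_zero.mp (show (2 : F) * (H : M2).trace = 0 by
      linear_combination -e')).resolve_left h2
    rw [← map_mul]
    have hs := SL_sq_eq H
    rw [h0, zero_smul, zero_sub, ← Matrix.SpecialLinearGroup.coe_mul, ← Matrix.SpecialLinearGroup.coe_one,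
      ← Matrix.SpecialLinearGroup.coe_neg] at hs
    rw [Subtype.ext hs, proj_neg, map_one]

/-- For `5 < q ≡ 3, 5 (mod 8)` an involution `s` commutes with `h`, and it is the only involution commuting
with `h * h`. -/
theorem exists_torus_pair (h5 : 5 < Fintype.card F)
    (hq : Fintype.card F % 8 = 3 ∨ Fintype.card F % 8 = 5) :
    ∃ s h : P2, s * s = 1 ∧ s ≠ 1 ∧ s * h = h * s ∧
      ∀ a : P2, a * a = 1 → a ≠ 1 → a * (h * h) = h * h * a → a = s := by
  classical
  have h2 : (2 : F) ≠ 0 := by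
    intro h
    haveI : CharP F 2 := CharTwo.of_one_ne_zero_of_two_eq_zero one_ne_zero h
    obtain ⟨n, -, hn⟩ := FiniteField.card F 2
    have : 2 ∣ Fintype.card F := hn ▸ dvd_pow_self 2 n.ne_zero
    omega
  have hgcd : Nat.gcd 2 (Fintype.card F - 1) = 2 := Nat.gcd_eq_left (by omega)
  obtain ⟨x, hx, m, hm, hm1, hcard⟩ : ∃ x : P2, ¬ IsUni x ∧ ∃ m : ℕ, m % 2 = 1 ∧ 3 ≤ m ∧
      Nat.card (cen x) = 2 * m := by
    rcases hq with h8 | h8
    · obtain ⟨x, hx, hc⟩ := exists_nonsplit (F := F)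
      rw [hgcd] at hc
      exact ⟨x, hx, (Fintype.card F + 1) / 4, by omega, by omega, by omega⟩
    · obtain ⟨x, hx, hc⟩ := exists_split (F := F) (by omega)
      rw [hgcd] at hc
      exact ⟨x, hx, (Fintype.card F - 1) / 4, by omega, by omega, by omega⟩
  have hx1 := Dickson.ne_one_of_not_isUni hx
  haveI := isCyclic_cen hx
  obtain ⟨g, hg⟩ := IsCyclic.exists_generator (α := cen x)
  have ho : orderOf (g : P2) = 2 * m := by
    rw [orderOf_coe, orderOf_eq_card_of_forall_mem_zpowers hg, hcard]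
  have hmem : ∀ b ∈ cen x, ∃ i < 2 * m, (g : P2) ^ i = b := by
    intro b hb
    obtain ⟨i, hi, e⟩ := Finset.mem_image.mp (mem_zpowers_iff_mem_range_orderOf.mp (hg ⟨b, hb⟩))
    refine ⟨i, ?_, congrArg Subtype.val e⟩
    rw [← ho, orderOf_coe]
    exact Finset.mem_range.mp hi
  have hne : ∀ i : ℕ, 0 < i → i < 2 * m → (g : P2) ^ i ≠ 1 := fun i hi hi' e => by
    have := Nat.le_of_dvd hi (ho ▸ orderOf_dvd_of_pow_eq_one e)
    omega
  refine ⟨(g : P2) ^ m, (g : P2) ^ 2, by rw [← pow_add, ← two_mul, ← ho, pow_orderOf_eq_one],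
    hne m (by omega) (by omega), by rw [← pow_add, ← pow_add, add_comm], fun a ha ha1 hc => ?_⟩
  rw [← pow_add] at hc
  have hk1 : (g : P2) ^ (2 + 2) ≠ 1 := hne 4 (by omega) (by omega)
  have hk2 : (g : P2) ^ (2 + 2) * (g : P2) ^ (2 + 2) ≠ 1 := by
    rw [← pow_add]
    intro e
    have hd : 2 * m ∣ 2 * 4 := ho ▸ orderOf_dvd_of_pow_eq_one e
    have := Nat.dvd_of_mul_dvd_mul_left two_pos hd
    have h4 := Nat.le_of_dvd (by norm_num) this
    obtain rfl : m = 3 := by omega
    omega
  have hmx : (g : P2) ^ (2 + 2) ∈ cen x := pow_mem g.2 _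
  have hax := mem_cen_of_commute_of_sq h2 hk2 hc
  rw [cen_eq_of_mem hx1 hk1 hmx] at hax
  obtain ⟨i, hi, rfl⟩ := hmem a hax
  have hd : 2 * m ∣ 2 * i := ho ▸ orderOf_dvd_of_pow_eq_one (by rw [two_mul, pow_add, ha])
  obtain ⟨j, hj⟩ := Nat.dvd_of_mul_dvd_mul_left two_pos hd
  have hj2 : j < 2 := Nat.lt_of_mul_lt_mul_left (a := m) (by rw [← hj, mul_comm m 2]; exact hi)
  interval_cases j
  · rw [mul_zero] at hj
    rw [hj, pow_zero] at ha1
    exact absurd rfl ha1
  · rw [hj, mul_one]

/-- Hence an involution of `PSL₂` lies in two Sylow 2-subgroups of elementary abelian type. -/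
theorem exists_two_sylows (h5 : 5 < Fintype.card F)
    (hq : Fintype.card F % 8 = 3 ∨ Fintype.card F % 8 = 5)
    (hab : ∀ P : Sylow 2 P2, ∀ a ∈ (P : Subgroup P2), ∀ b ∈ (P : Subgroup P2), a * b = b * a) :
    ∃ P Q : Sylow 2 P2, P ≠ Q ∧ ∃ s : P2, s * s = 1 ∧ s ≠ 1 ∧ s ∈ (P : Subgroup P2) ∧ s ∈ (Q : Subgroup P2) := by
  classical
  obtain ⟨s, h, hs2, hs1, hsh, huniq⟩ := exists_torus_pair h5 hq
  have hpz : IsPGroup 2 (zpowers s) := IsPGroup.of_card (n := 1) (by
    rw [Nat.card_zpowers, orderOf_two hs2 hs1, pow_one])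
  obtain ⟨P, hP⟩ := hpz.exists_le_sylow
  have hsP : s ∈ (P : Subgroup P2) := hP (mem_zpowers s)
  rcases H35.JT.psl_sylow_odd (Nat.odd_iff.mpr (by omega)) P with
    ⟨c, hc, hc4, hd, d, hdP, hdc⟩ | ⟨hsq, hcard⟩
  · exfalso
    obtain ⟨hd2, hdcd⟩ := (hd d hdP).resolve_left hdc
    rw [mul_assoc, ← hab P d hdP c hc, ← mul_assoc, hd2, one_mul] at hdcd
    have h2 : c * c = 1 := by nth_rw 2 [hdcd]; exact mul_inv_cancel c
    have := Nat.le_of_dvd two_pos (hc4.trans (orderOf_dvd_of_pow_eq_one (n := 2) (by rw [pow_two, h2])))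
    omega
  · refine ⟨P, h • P, fun e => ?_, s, hs2, hs1, hsP, ⟨s, hsP, ?_⟩⟩
    swap
    · show h * s * h⁻¹ = s
      rw [← hsh, mul_inv_cancel_right]
    obtain ⟨a, haP, ha1, has⟩ : ∃ a ∈ (P : Subgroup P2), a ≠ 1 ∧ a ≠ s := by
      by_contra hall
      push Not at hall
      have hsub : ((P : Subgroup P2) : Set P2).toFinset ⊆ {1, s} := fun x hx => by
        rw [Set.mem_toFinset] at hx
        rw [Finset.mem_insert, Finset.mem_singleton]
        exact or_iff_not_imp_left.mpr (hall x hx)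
      have hle := (Finset.card_le_card hsub).trans Finset.card_le_two
      rw [← Nat.card_eq_card_toFinset] at hle
      have : Nat.card ((P : Subgroup P2) : Set P2) = 4 := hcard
      omega
    have hsa : s * a ≠ 1 := fun e' => has <| by
      calc a = s * s * a := by rw [hs2, one_mul]
        _ = s := by rw [mul_assoc, e', mul_one]
    have hfour : ∀ x ∈ (P : Subgroup P2), x = 1 ∨ x = s ∨ x = a ∨ x = s * a := by
      intro x hx
      have hsub : ({1, s, a, s * a} : Finset P2) ⊆ ((P : Subgroup P2) : Set P2).toFinset := by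
        intro y hy
        simp only [Finset.mem_insert, Finset.mem_singleton] at hy
        rw [Set.mem_toFinset]
        rcases hy with rfl | rfl | rfl | rfl
        exacts [one_mem _, hsP, haP, mul_mem hsP haP]
      have h4 : ({1, s, a, s * a} : Finset P2).card = 4 :=
        Finset.card_eq_four.mpr ⟨1, s, a, s * a, hs1.symm, ha1.symm, hsa.symm, has.symm,
          fun e' => ha1 (left_eq_mul.mp e'), fun e' => hs1 (right_eq_mul.mp e'), rfl⟩
      have heq := Finset.eq_of_subset_of_card_le hsub (by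
        rw [← Nat.card_eq_card_toFinset, h4]
        exact hcard.le)
      have hx' : x ∈ ({1, s, a, s * a} : Finset P2) := by rw [heq, Set.mem_toFinset]; exact hx
      simpa only [Finset.mem_insert, Finset.mem_singleton] using hx'
    have ha2 : a * a = 1 := hsq a haP
    refine has (huniq a ha2 ha1 ?_)
    have hha : h * a * h⁻¹ ∈ (P : Subgroup P2) := by
      rw [e]
      exact ⟨a, haP, rfl⟩
    have hhs : h * s * h⁻¹ = s := by rw [← hsh, mul_inv_cancel_right]
    have hfix : h * h * a * (h * h)⁻¹ = a := by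
      rcases hfour _ hha with e' | e' | e' | e'
      · exact absurd (show a = 1 by rw [show a = h⁻¹ * (h * a * h⁻¹) * h by group, e']; group) ha1
      · exact absurd (show a = s by
          rw [show a = h⁻¹ * (h * a * h⁻¹) * h by group, e']
          calc h⁻¹ * s * h = h⁻¹ * (s * h) := mul_assoc _ _ _
            _ = s := by rw [hsh, inv_mul_cancel_left]) has
      · rw [show h * h * a * (h * h)⁻¹ = h * (h * a * h⁻¹) * h⁻¹ by group, e', e']
      · rw [show h * h * a * (h * h)⁻¹ = h * (h * a * h⁻¹) * h⁻¹ by group, e',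
          show h * (s * a) * h⁻¹ = h * s * h⁻¹ * (h * a * h⁻¹) by group, e', hhs, ← mul_assoc, hs2, one_mul]
    exact (mul_inv_eq_iff_eq_mul.mp hfix).symm

end Torus

variable {G : Type*} [Group G] [Finite G]

/-- With more than five elements in the field, type R contradicts uniqueness. -/
theorem false_of_large (hU : Uniq G) (hab : AbSyl G) {t : G} (ht : orderOf t = 2) {E E₀ : Subgroup G}
    (hprod : Cfsg.IsInternalDirectProduct (zpowers t) E (centralizer ({t} : Set G))) (hle : E₀ ≤ E)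
    {F : Type} [Field F] [Fintype F] (h5 : 5 < Fintype.card F)
    (hq : Fintype.card F % 8 = 3 ∨ Fintype.card F % 8 = 5)
    (e : ↥E₀ ≃* Matrix.ProjectiveSpecialLinearGroup (Fin 2) F) : False := by
  set f := E₀.subtype.comp e.symm.toMonoidHom with hf
  have hfinj : Function.Injective f := E₀.subtype_injective.comp e.symm.injective
  have hfE : ∀ x, f x ∈ E := fun x => hle (e.symm x).2
  have htc : ∀ x, t * f x = f x * t := fun x => hprod.2.2.1 t (mem_zpowers t) _ (hfE x)
  obtain ⟨P, Q, hPQ, s, hs2, hs1, hsP, hsQ⟩ := exists_two_sylows h5 hq fun P a ha b hb =>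
    hfinj (by rw [map_mul, map_mul]; exact
      (hab.comm (P.isPGroup'.map f) ⟨a, ha, rfl⟩ ⟨b, hb, rfl⟩).eq)
  have hfs : orderOf (f s) = 2 := (orderOf_injective f hfinj s).trans (orderOf_two hs2 hs1)
  have hfst : f s ≠ t := fun e' => ne_one_of_orderOf_two ht (mem_bot.mp (show t ∈ (⊥ : Subgroup G) from
    hprod.2.2.2.1 ▸ (show t ∈ zpowers t ⊓ E from ⟨mem_zpowers t, e' ▸ hfE s⟩)))
  have hsup : ∀ R : Sylow 2 (Matrix.ProjectiveSpecialLinearGroup (Fin 2) F), ∃ U : Sylow 2 G,
      t ∈ (U : Subgroup G) ∧ (R : Subgroup _).map f ≤ (U : Subgroup G) := by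
    intro R
    have hpt : IsPGroup 2 (zpowers t) := IsPGroup.of_card (n := 1) (by rw [Nat.card_zpowers, ht, pow_one])
    have hn : (R : Subgroup _).map f ≤ normalizer ((zpowers t : Subgroup G) : Set G) := by
      rintro _ ⟨r, -, rfl⟩
      refine mem_normalizer_iff.mpr fun y => ?_
      have hc : ∀ z ∈ zpowers t, f r * z * (f r)⁻¹ = z := fun z hz => by
        rw [← hprod.2.2.1 z hz _ (hfE r), mul_inv_cancel_right]
      constructor
      · intro hy
        rwa [hc y hy]
      · intro hy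
        have h' := hc _ hy
        have e' : y = f r * y * (f r)⁻¹ := by
          calc y = (f r)⁻¹ * (f r * y * (f r)⁻¹) * f r := by group
            _ = (f r)⁻¹ * (f r * (f r * y * (f r)⁻¹) * (f r)⁻¹) * f r := by rw [h']
            _ = f r * y * (f r)⁻¹ := by group
        rwa [e']
    obtain ⟨U, hU'⟩ := ((R.isPGroup'.map f).to_sup_of_normal_right' hpt hn).exists_le_sylow
    exact ⟨U, hU' (le_sup_right (a := (R : Subgroup _).map f) (mem_zpowers t)), le_sup_left.trans hU'⟩
  obtain ⟨U, htU, hPU⟩ := hsup P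
  obtain ⟨V, htV, hQV⟩ := hsup Q
  have htc2 : Cfsg.IsTwoCentralInvolution t := ⟨ht, U, htU, fun u hu => (hab.comm U.isPGroup' hu htU).eq⟩
  obtain rfl := hU t (f s) htc2 hfs hfst (htc s) U V htU (hPU ⟨s, hsP, rfl⟩) htV (hQV ⟨s, hsQ, rfl⟩)
  have hp := U.isPGroup'.comap_of_injective f hfinj
  exact hPQ (Sylow.ext ((P.is_maximal' hp (map_le_iff_le_comap.mp hPU)).symm.trans
    (Q.is_maximal' hp (map_le_iff_le_comap.mp hQV))))

theorem card_mulAut_alt_five : Nat.card (MulAut (alternatingGroup (Fin 5))) = 120 := by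
  rw [← Nat.card_congr (Equiv.ofBijective _ (S2119.result 5 (by norm_num) (by norm_num))), Nat.card_perm,
    Nat.card_fin]
  rfl

variable [IsSimpleGroup G]

/-- Type R with uniqueness is the first Janko group. -/
theorem j1_of_typeR (hU : Uniq G) (hab : AbSyl G) (hR : IsTypeR G) : Cfsg.IsJ1 G := by
  obtain ⟨h8, -, t, E, E₀, ht, hprod, hle, hnorm, ⟨F, _, _, h5, hq, ⟨e⟩⟩, hcent⟩ := hR
  rcases h5.lt_or_eq with h5 | h5
  · exact (false_of_large hU hab ht hprod hle h5 hq e).elim
  obtain ⟨e5⟩ := S0253.result h5.symm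
  haveI := hnorm
  set N := E₀.subgroupOf E with hN
  have eN : ↥N ≃* alternatingGroup (Fin 5) := ((subgroupOfEquivOfLe hle).trans e).trans e5
  have hinj : Function.Injective (MulAut.conjNormal : ↥E →* MulAut ↥N) := by
    rw [injective_iff_map_eq_one]
    intro x hx
    have hmem : (x : G) ∈ E ⊓ centralizer (E₀ : Set G) := ⟨x.2, mem_centralizer_iff.mpr fun y hy => by
      have h1 := congrArg (fun σ : MulAut ↥N => ((σ ⟨⟨y, hle hy⟩, hy⟩ : ↥E) : G)) hx
      simp only [MulAut.conjNormal_apply, MulAut.one_apply, Subgroup.coe_mul, Subgroup.coe_inv] at h1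
      exact (mul_inv_eq_iff_eq_mul.mp h1).symm⟩
    rw [hcent, mem_bot] at hmem
    exact Subtype.ext hmem
  have h60 : Nat.card ↥N = 60 := by
    rw [Nat.card_congr eN.toEquiv]
    exact Dickson.card_alt_five
  have hdvd : Nat.card ↥E ∣ 120 := by
    have := Subgroup.card_dvd_of_injective _ hinj
    rwa [Nat.card_congr (MulAut.congr eN).toEquiv, card_mulAut_alt_five] at this
  have hN' : 60 ∣ Nat.card ↥E := h60 ▸ N.card_subgroup_dvd_card
  obtain ⟨ee⟩ := H54.Classes.exists_equiv_prod hprod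
  have hC : Nat.card ↥(centralizer ({t} : Set G)) = 2 * Nat.card ↥E := by
    rw [← Nat.card_congr ee.toEquiv, Nat.card_prod, Nat.card_zpowers, ht]
  have hne : Nat.card ↥E ≠ 120 := by
    intro h120
    obtain ⟨T⟩ : Nonempty (Sylow 2 G) := inferInstance
    have h16 : 2 ^ 4 ∣ Nat.card G := (show 2 ^ 4 ∣ 2 * Nat.card ↥E by rw [h120]; norm_num).trans
      (hC ▸ card_subgroup_dvd_card _)
    have h4 := (Nat.prime_two.pow_dvd_iff_le_factorization Nat.card_pos.ne').mp h16
    have h' := Nat.pow_le_pow_right (show 0 < 2 by norm_num) h4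
    rw [← T.card_eq_multiplicity, h8 T] at h'
    norm_num at h'
  have hE : Nat.card ↥E = 60 := by
    obtain ⟨k, hk⟩ := hN'
    have : k ≤ 2 := by
      have := Nat.le_of_dvd (by norm_num) hdvd
      omega
    interval_cases k <;> simp_all
  have hNtop : N = ⊤ := eq_top_of_card_eq N (by rw [h60, hE])
  have eE : ↥E ≃* alternatingGroup (Fin 5) :=
    (Subgroup.topEquiv.symm.trans (MulEquiv.subgroupCongr hNtop.symm)).trans eN
  haveI : IsCyclic (zpowers t) := isCyclic_zpowers t
  have eZ : ↥(zpowers t) ≃* Multiplicative (ZMod 2) :=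
    mulEquivOfCyclicCardEq (by rw [Nat.card_zpowers, ht, Nat.card_congr Multiplicative.toAdd, Nat.card_zmod])
  obtain ⟨T, hT⟩ : ∃ T : Sylow 2 G, t ∈ (T : Subgroup G) := by
    obtain ⟨T, hT⟩ := (IsPGroup.of_card (G := zpowers t) (p := 2) (n := 1)
      (by rw [Nat.card_zpowers, ht, pow_one])).exists_le_sylow
    exact ⟨T, hT (mem_zpowers t)⟩
  exact S0448.result t ⟨ht, T, hT, fun u hu => (hab.comm T.isPGroup' hu hT).eq⟩
    (ee.symm.trans (eZ.prodCongr eE))

end Cfsg.Agent.H91.RO
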