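import Cfsg.Prelude.Def_Involutions
import Cfsg.Prelude.Def_TwoFusion
import Cfsg.Prelude.Def_SporadicB
import Cfsg.Prelude.Def_CaseTheorems
import Cfsg.Agent.H91.CI.Basic
import Cfsg.Agent.S0215
import Mathlib.GroupTheory.Focal
import Mathlib

/-!
# Simple groups with central Sylow 2-intersections of rank one: fusion

`Uniq G`: an involution commuting with another, 2-central, involution lies with it in one Sylow 2-subgroup only.
Then the 2-central involutions of a Sylow 2-subgroup `S` are those of `zInv S`, the normaliser of `S` controls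
fusion in `S`, and in a simple group it fixes no such involution and acts trivially on no quotient of order 2.
-/

set_option autoImplicit false
set_option linter.style.haveILetI false
set_option linter.unusedSectionVars false

namespace Cfsg.Agent.H91.RO

open Subgroup
open Cfsg.Agent.H91.CI (zInv zInv_le mem_zInv conj_mem_sylow_iff mem_of_mem_normalizer zInv_invariant)
open scoped Pointwise commutatorElement

variable {G : Type*} [Group G]

local instance fact_two_roBasic : Fact (Nat.Prime 2) := ⟨Nat.prime_two⟩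

/-- Two commuting involutions, one of them 2-central, lie in at most one Sylow 2-subgroup. -/
def Uniq (G : Type*) [Group G] : Prop :=
  ∀ z x : G, Cfsg.IsTwoCentralInvolution z → orderOf x = 2 → x ≠ z → Commute z x →
    ∀ S T : Sylow 2 G, z ∈ (S : Subgroup G) → x ∈ (S : Subgroup G) →
      z ∈ (T : Subgroup G) → x ∈ (T : Subgroup G) → S = T

theorem sq_of_orderOf_two {x : G} (h : orderOf x = 2) : x * x = 1 := by
  rw [← pow_two, ← h, pow_orderOf_eq_one]

theorem ne_one_of_orderOf_two {x : G} (h : orderOf x = 2) : x ≠ 1 := fun e => by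
  rw [e, orderOf_one] at h
  exact absurd h (by norm_num)

theorem orderOf_two {x : G} (h : x * x = 1) (h1 : x ≠ 1) : orderOf x = 2 :=
  orderOf_eq_prime (by rw [pow_two]; exact h) h1

theorem orderOf_conj_eq (g x : G) : orderOf (g * x * g⁻¹) = orderOf x :=
  (MulAut.conj g).orderOf_eq x

/-- Intersections containing a 2-central involution have rank at most one. -/
theorem uniq_of_hyp [Finite G]
    (h : ∀ S T : Sylow 2 G, S ≠ T →
      ((S : Subgroup G) ⊓ (T : Subgroup G) = ⊥ ∨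
        ∃ z ∈ (S : Subgroup G) ⊓ (T : Subgroup G), orderOf z = 2 ∧
          ∃ U : Sylow 2 G, z ∈ (Subgroup.center ↥(U : Subgroup G)).map (U : Subgroup G).subtype) →
      Cfsg.PRankLE 2 1 ↥((S : Subgroup G) ⊓ (T : Subgroup G))) : Uniq G := by
  intro z x hz hx hxz hc S T hzS hxS hzT hxT
  by_contra hne
  obtain ⟨U, hzU, hzc⟩ := hz.2
  have hzc' : z ∈ (center ↥(U : Subgroup G)).map (U : Subgroup G).subtype :=
    ⟨⟨z, hzU⟩, mem_center_iff.mpr fun u => Subtype.ext (hzc u u.2), rfl⟩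
  have hr := h S T hne (Or.inr ⟨z, ⟨hzS, hzT⟩, hz.1, U, hzc'⟩)
  set D := (S : Subgroup G) ⊓ (T : Subgroup G)
  set z' : ↥D := ⟨z, hzS, hzT⟩ with hz'
  set x' : ↥D := ⟨x, hxS, hxT⟩ with hx'
  have hA : IsMulCommutative ↥(closure ({z', x'} : Set ↥D)) := by
    refine isMulCommutative_closure ?_
    rintro a (rfl | rfl) b (rfl | rfl) <;> first
      | rfl
      | exact Subtype.ext hc.eq
      | exact Subtype.ext hc.eq.symm
  have hsq : ∀ a ∈ closure ({z', x'} : Set ↥D), a ^ 2 = 1 := by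
    intro a ha
    induction ha using closure_induction with
    | mem y hy =>
      rcases hy with rfl | rfl
      · exact Subtype.ext (by rw [SubmonoidClass.coe_pow, pow_two]; exact sq_of_orderOf_two hz.1)
      · exact Subtype.ext (by rw [SubmonoidClass.coe_pow, pow_two]; exact sq_of_orderOf_two hx)
    | one => exact one_pow 2
    | mul a b ha hb iha ihb =>
      have hcab : a * b = b * a := congrArg Subtype.val
        (hA.is_comm.comm ⟨a, ha⟩ ⟨b, hb⟩)
      rw [(show Commute a b from hcab).mul_pow, iha, ihb, one_mul]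
    | inv a _ iha => rw [inv_pow, iha, inv_one]
  have hle := hr _ hA hsq
  let f : Fin 3 → ↥(closure ({z', x'} : Set ↥D)) := ![1, ⟨z', subset_closure (Or.inl rfl)⟩,
    ⟨x', subset_closure (Or.inr rfl)⟩]
  have hf : Function.Injective f := by
    have e : ∀ i, (((f i : ↥D)) : G) = ![1, z, x] i := fun i => by fin_cases i <;> rfl
    intro i j hij
    have h' : (![1, z, x] : Fin 3 → G) i = ![1, z, x] j := by rw [← e, ← e, hij]
    have z1 := ne_one_of_orderOf_two hz.1
    have x1 := ne_one_of_orderOf_two hx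
    fin_cases i <;> fin_cases j <;>
      first
        | rfl
        | exact absurd h' z1
        | exact absurd h'.symm z1
        | exact absurd h' x1
        | exact absurd h'.symm x1
        | exact absurd h' hxz
        | exact absurd h'.symm hxz
  have h3 := Nat.card_le_card_of_injective f hf
  rw [Nat.card_eq_fintype_card, Fintype.card_fin] at h3
  omega

variable [Finite G]

/-- The conjugates of a subgroup in one centraliser meet the Sylow 2-subgroup containing it. -/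
theorem conj_normalizer_of_unique {S : Sylow 2 G} {A : Subgroup G} (hAS : A ≤ (S : Subgroup G))
    (huniq : ∀ U : Sylow 2 G, A ≤ (U : Subgroup G) → U = S) {x g : G}
    (hxA : ∀ a ∈ A, a * x = x * a) (hy : ∀ a ∈ A, a * (g * x * g⁻¹) = g * x * g⁻¹ * a) :
    ∃ n ∈ normalizer ((S : Subgroup G) : Set G), n * x * n⁻¹ = g * x * g⁻¹ := by
  set y := g * x * g⁻¹ with hy'
  set C := centralizer ({y} : Set G)
  have hAC : A ≤ C := fun a ha => mem_centralizer_singleton_iff.mpr (hy a ha)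
  obtain ⟨P, hP⟩ := ((S.isPGroup'.to_le hAS).comap_of_injective C.subtype C.subtype_injective).exists_le_sylow
  obtain ⟨U, hU⟩ := (P.isPGroup'.map C.subtype).exists_le_sylow
  have hUS : U = S := huniq U fun a ha => hU ⟨⟨a, hAC ha⟩, hP ha, rfl⟩
  subst hUS
  set A' := A.map (MulAut.conj g).toMonoidHom with hA'
  have hA'C : A' ≤ C := by
    rintro _ ⟨a, ha, rfl⟩
    refine mem_centralizer_singleton_iff.mpr ?_
    show g * a * g⁻¹ * (g * x * g⁻¹) = g * x * g⁻¹ * (g * a * g⁻¹)
    rw [show g * a * g⁻¹ * (g * x * g⁻¹) = g * (a * x) * g⁻¹ by group, hxA a ha]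
    group
  obtain ⟨P', hP'⟩ := (((U.isPGroup'.to_le hAS).map (MulAut.conj g).toMonoidHom).comap_of_injective
    C.subtype C.subtype_injective).exists_le_sylow
  obtain ⟨c, hc⟩ := MulAction.exists_smul_eq C P P'
  set m := (c : G)⁻¹ * g with hm
  have hmA : ∀ a ∈ A, m * a * m⁻¹ ∈ (U : Subgroup G) := by
    intro a ha
    have h1 : (⟨g * a * g⁻¹, hA'C ⟨a, ha, rfl⟩⟩ : C) ∈ (P' : Subgroup C) := hP' ⟨a, ha, rfl⟩
    rw [← hc] at h1
    obtain ⟨p, hp, e⟩ := h1
    have e' : (c : G) * p * (c : G)⁻¹ = g * a * g⁻¹ := congrArg Subtype.val e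
    rw [hm, show (c : G)⁻¹ * g * a * ((c : G)⁻¹ * g)⁻¹ = (c : G)⁻¹ * (g * a * g⁻¹) * c by group, ← e',
      show (c : G)⁻¹ * ((c : G) * p * (c : G)⁻¹) * c = p by group]
    exact hU ⟨p, hp, rfl⟩
  have hfix : m⁻¹ • U = U := huniq _ fun a ha => ⟨m * a * m⁻¹, hmA a ha, by
    show m⁻¹ * (m * a * m⁻¹) * m⁻¹⁻¹ = a
    group⟩
  refine ⟨m, by simpa using inv_mem (Sylow.smul_eq_iff_mem_normalizer.mp hfix), ?_⟩
  have hcy := mem_centralizer_singleton_iff.mp c.2
  rw [hm, show (c : G)⁻¹ * g * x * ((c : G)⁻¹ * g)⁻¹ = (c : G)⁻¹ * (y * c) by rw [hy']; group, ← hcy,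
    inv_mul_cancel_left]

theorem twoCentral_of_conj {S : Sylow 2 G} {z g : G} (hz : z ∈ zInv (S : Subgroup G)) (hz1 : z ≠ 1) :
    Cfsg.IsTwoCentralInvolution (g * z * g⁻¹) := by
  refine ⟨(orderOf_conj_eq g z).trans (orderOf_two hz.2.1 hz1), g • S, conj_mem_sylow_iff.mpr hz.1, ?_⟩
  rintro _ ⟨s, hs, rfl⟩
  show g * s * g⁻¹ * (g * z * g⁻¹) = g * z * g⁻¹ * (g * s * g⁻¹)
  rw [show g * s * g⁻¹ * (g * z * g⁻¹) = g * (s * z) * g⁻¹ by group, hz.2.2 s hs]
  group

theorem twoCentral_of_zInv {S : Sylow 2 G} {z : G} (hz : z ∈ zInv (S : Subgroup G)) (hz1 : z ≠ 1) :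
    Cfsg.IsTwoCentralInvolution z :=
  ⟨orderOf_two hz.2.1 hz1, S, hz.1, fun s hs => hz.2.2 s hs⟩

variable (hU : Uniq G)
include hU

/-- The 2-central involutions of `S` are central in `S`. -/
theorem mem_zInv_of_twoCentral {S : Sylow 2 G} {w z : G} (hw : w ∈ zInv (S : Subgroup G)) (hw1 : w ≠ 1)
    (hz : Cfsg.IsTwoCentralInvolution z) (hzS : z ∈ (S : Subgroup G)) : z ∈ zInv (S : Subgroup G) := by
  rcases eq_or_ne w z with rfl | hwz
  · exact hw
  refine ⟨hzS, sq_of_orderOf_two hz.1, ?_⟩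
  obtain ⟨U, hzU, hzc⟩ := hz.2
  set C := centralizer ({z} : Set G)
  have hUC : (U : Subgroup G) ≤ C := fun u hu => mem_centralizer_singleton_iff.mpr (hzc u hu)
  have hwz' : Commute z w := hw.2.2 z hzS
  have hwC : w ∈ C := mem_centralizer_singleton_iff.mpr hwz'.eq.symm
  have hwp : IsPGroup 2 ↥(zpowers (⟨w, hwC⟩ : C)) := IsPGroup.of_card (n := 1) (by
    rw [Nat.card_zpowers, Subgroup.orderOf_mk, orderOf_two hw.2.1 hw1, pow_one])
  obtain ⟨P, hP⟩ := hwp.exists_le_sylow
  obtain ⟨c, hc⟩ := MulAction.exists_smul_eq C (U.subtype hUC) P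
  have hwU : w ∈ (((c : G) • U : Sylow 2 G) : Subgroup G) := by
    have h1 := hP (mem_zpowers (⟨w, hwC⟩ : C))
    rw [← hc] at h1
    obtain ⟨u, hu, e⟩ := h1
    exact ⟨u, hu, congrArg Subtype.val e⟩
  have hcz := mem_centralizer_singleton_iff.mp c.2
  have hzU' : z ∈ (((c : G) • U : Sylow 2 G) : Subgroup G) := ⟨z, hzU, by
    show (c : G) * z * (c : G)⁻¹ = z
    rw [hcz, mul_inv_cancel_right]⟩
  have e := hU z w hz (orderOf_two hw.2.1 hw1) hwz hwz' S _ hzS hw.1 hzU' hwU
  intro s hs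
  rw [e] at hs
  obtain ⟨u, hu, rfl⟩ := hs
  show (c : G) * u * (c : G)⁻¹ * z = z * ((c : G) * u * (c : G)⁻¹)
  calc (c : G) * u * (c : G)⁻¹ * z = (c : G) * u * (c : G)⁻¹ * ((c : G) * z * (c : G)⁻¹) := by
        rw [hcz, mul_inv_cancel_right]
    _ = (c : G) * (u * z) * (c : G)⁻¹ := by group
    _ = (c : G) * (z * u) * (c : G)⁻¹ := by rw [hzc u hu]
    _ = (c : G) * z * (c : G)⁻¹ * ((c : G) * u * (c : G)⁻¹) := by group
    _ = z * ((c : G) * u * (c : G)⁻¹) := by rw [hcz, mul_inv_cancel_right]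

/-- A four-group of central involutions lies in one Sylow 2-subgroup. -/
theorem eq_of_pair_le {S : Sylow 2 G} {z w : G} (hz : z ∈ zInv (S : Subgroup G)) (hz1 : z ≠ 1)
    (hw : w ∈ zInv (S : Subgroup G)) (hw1 : w ≠ 1) (hwz : w ≠ z) {U : Sylow 2 G}
    (hzU : z ∈ (U : Subgroup G)) (hwU : w ∈ (U : Subgroup G)) : U = S :=
  hU z w (twoCentral_of_zInv hz hz1) (orderOf_two hw.2.1 hw1) hwz (hw.2.2 z hz.1) U S hzU hwU hz.1 hw.1

/-- The normaliser of `S` controls fusion in `S`. -/
theorem exists_conj_normalizer {S : Sylow 2 G} {z w : G} (hz : z ∈ zInv (S : Subgroup G)) (hz1 : z ≠ 1)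
    (hw : w ∈ zInv (S : Subgroup G)) (hw1 : w ≠ 1) (hwz : w ≠ z) {x g : G} (hx : x ∈ (S : Subgroup G))
    (hgx : g * x * g⁻¹ ∈ (S : Subgroup G)) :
    ∃ n ∈ normalizer ((S : Subgroup G) : Set G), n * x * n⁻¹ = g * x * g⁻¹ :=
  conj_normalizer_of_unique (A := zInv (S : Subgroup G)) (zInv_le _)
    (fun _ hU' => eq_of_pair_le hU hz hz1 hw hw1 hwz (hU' hz) (hU' hw))
    (fun _ ha => (ha.2.2 x hx).symm) fun _ ha => (ha.2.2 _ hgx).symm

variable [IsSimpleGroup G] (hna : ¬ IsMulCommutative G)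
include hna

omit hU in
/-- No involution of `S` is weakly closed in it. -/
theorem false_of_isolated {S : Sylow 2 G} {z : G} (hzS : z ∈ (S : Subgroup G)) (hz : orderOf z = 2)
    (hiso : ∀ g : G, g * z * g⁻¹ ∈ (S : Subgroup G) → g * z * g⁻¹ = z) : False := by
  obtain ⟨N, hN, hodd, hcomm⟩ := S0215.result S z hz hzS hiso
  rcases hN.eq_bot_or_eq_top with rfl | rfl
  · have hzc : z ∈ center G := mem_center_iff.mpr fun g => by
      have h1 := mul_inv_eq_one.mp (mem_bot.mp (hcomm g))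
      exact (mul_inv_eq_iff_eq_mul.mp h1).symm
    rcases (inferInstance : (center G).Normal).eq_bot_or_eq_top with e | e
    · exact ne_one_of_orderOf_two hz (mem_bot.mp (e ▸ hzc))
    · exact hna ⟨⟨fun a b => (mem_center_iff.mp (e ▸ mem_top b : b ∈ center G) a)⟩⟩
  · rw [Subgroup.card_top] at hodd
    exact hodd.not_two_dvd_nat (hz ▸ orderOf_dvd_natCard z)

/-- There are two central involutions. -/
theorem exists_pair (S : Sylow 2 G) {z : G} (hz : z ∈ zInv (S : Subgroup G)) (hz1 : z ≠ 1) :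
    ∃ w ∈ zInv (S : Subgroup G), w ≠ 1 ∧ w ≠ z := by
  by_contra hall
  push Not at hall
  refine false_of_isolated hna hz.1 (orderOf_two hz.2.1 hz1) fun g hg => ?_
  have hc := twoCentral_of_conj (g := g) hz hz1
  exact hall _ (mem_zInv_of_twoCentral hU hz hz1 hc hg) (ne_one_of_orderOf_two hc.1)

/-- The normaliser of `S` fixes no central involution. -/
theorem not_fixed {S : Sylow 2 G} {z : G} (hz : z ∈ zInv (S : Subgroup G)) (hz1 : z ≠ 1)
    (hfix : ∀ n ∈ normalizer ((S : Subgroup G) : Set G), n * z * n⁻¹ = z) : False := by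
  obtain ⟨w, hw, hw1, hwz⟩ := exists_pair hU hna S hz hz1
  refine false_of_isolated hna hz.1 (orderOf_two hz.2.1 hz1) fun g hg => ?_
  obtain ⟨n, hn, e⟩ := exists_conj_normalizer hU hz hz1 hw hw1 hwz hz.1 hg
  rw [← e, hfix n hn]

/-- The normaliser of `S` acts trivially on no non-trivial quotient of `S`. -/
theorem false_of_trivial_quotient {S : Sylow 2 G} {z : G} (hz : z ∈ zInv (S : Subgroup G)) (hz1 : z ≠ 1)
    {W : Subgroup G} (hne : ¬ (S : Subgroup G) ≤ W)
    (htriv : ∀ n ∈ normalizer ((S : Subgroup G) : Set G), ∀ s ∈ (S : Subgroup G), s⁻¹ * (n * s * n⁻¹) ∈ W) :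
    False := by
  obtain ⟨w, hw, hw1, hwz⟩ := exists_pair hU hna S hz hz1
  have htop : _root_.commutator G = ⊤ := by
    rcases (inferInstance : (_root_.commutator G).Normal).eq_bot_or_eq_top with e | e
    · exact absurd ⟨⟨fun a b => commutatorElement_eq_one_iff_mul_comm.mp
        (mem_bot.mp (e ▸ commutator_mem_commutator (mem_top a) (mem_top b)))⟩⟩ hna
    · exact e
  refine hne ?_
  have hfoc := Subgroup.commutator_inf_eq_focalSubgroup (P := S)
  rw [htop, top_inf_eq] at hfoc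
  conv_lhs => rw [hfoc]
  rw [Subgroup.focalSubgroup_def, closure_le]
  rintro _ ⟨hmem, x, hx, u, rfl⟩
  have e : ⁅x, u⁆ = x * (u * x⁻¹ * u⁻¹) := by rw [commutatorElement_def]; group
  have hux : u * x⁻¹ * u⁻¹ ∈ (S : Subgroup G) := by
    have := mul_mem (inv_mem hx) hmem
    rwa [e, inv_mul_cancel_left] at this
  obtain ⟨n, hn, e'⟩ := exists_conj_normalizer hU hz hz1 hw hw1 hwz (inv_mem hx) hux
  show ⁅x, u⁆ ∈ W
  rw [e, ← e']
  have := htriv n hn x⁻¹ (inv_mem hx)
  rwa [inv_inv] at this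

end Cfsg.Agent.H91.RO
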