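import Cfsg.Agent.H91.RO.Local

/-!
# No involution centraliser has a component

A Sylow 2-subgroup of a simple group cannot have the shape `Parts`: the normaliser of `S` would fix a central
involution or act trivially on a quotient of order 2.
-/

set_option autoImplicit false
set_option linter.style.haveILetI false
set_option linter.unusedSectionVars false

namespace Cfsg.Agent.H91.RO

open Subgroup Cfsg.Agent
open Cfsg.Agent.H91.CI (zInv zInv_le mem_zInv mem_of_mem_normalizer zInv_invariant)
open scoped Pointwise commutatorElement IsMulCommutative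

universe u

local instance fact_two_roKill : Fact (Nat.Prime 2) := ⟨Nat.prime_two⟩

variable {G : Type u} [Group G] [Finite G]

theorem zInv_isMulCommutative (S : Subgroup G) : IsMulCommutative ↥(zInv S) :=
  ⟨⟨fun a b => Subtype.ext (b.2.2.2 (a : G) a.2.1)⟩⟩

variable (hU : Uniq G) [IsSimpleGroup G] (hna : ¬ IsMulCommutative G) (S : Sylow 2 G)
include hU hna

/-- Two conjugation-invariant data giving a central involution fixed by the normaliser: an element `v` whose
conjugates outside `B` are either only `v` or all. -/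
theorem false_of_split {v : G} (hv : v ∈ zInv (S : Subgroup G)) (hv1 : v ≠ 1) {B : Subgroup G} (hvB : v ∉ B)
    (hsplit : ∀ a ∈ zInv (S : Subgroup G), a ∈ B ∨ v * a ∈ B)
    (hout : (∀ n ∈ normalizer ((S : Subgroup G) : Set G), n * v * n⁻¹ ∉ B → n * v * n⁻¹ = v) ∨
      (∀ n ∈ normalizer ((S : Subgroup G) : Set G), n * v * n⁻¹ ∉ B)) : False := by
  classical
  haveI := zInv_isMulCommutative (S : Subgroup G)
  set N := normalizer ((S : Subgroup G) : Set G) with hN
  set S' := (S : Subgroup G).subgroupOf N with hS'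
  haveI hS'n : S'.Normal :=
    normal_subgroupOf_iff_le_normalizer_inf.mpr ((le_inf le_rfl le_normalizer).trans inf_normalizer_le_normalizer_inf)
  have hodd : Odd (Nat.card (↥N ⧸ S')) := by
    rw [← Nat.not_even_iff_odd, even_iff_two_dvd]
    intro h2
    refine (S.subtype le_normalizer).not_dvd_index ?_
    exact h2
  let f₀ : ↥N → ↥(zInv (S : Subgroup G)) := fun n => ⟨(n : G) * v * (n : G)⁻¹, zInv_invariant S n.2 hv⟩
  have hf₀ : ∀ n m : ↥N, (QuotientGroup.leftRel S') n m → f₀ n = f₀ m := by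
    intro n m h
    rw [QuotientGroup.leftRel_apply] at h
    refine Subtype.ext ?_
    show (n : G) * v * (n : G)⁻¹ = m * v * (m : G)⁻¹
    have hc := hv.2.2 _ (show ((n⁻¹ * m : ↥N) : G) ∈ (S : Subgroup G) from h)
    simp only [Subgroup.coe_mul, Subgroup.coe_inv] at hc
    calc (n : G) * v * (n : G)⁻¹ = n * (v * ((n : G)⁻¹ * m)) * (m : G)⁻¹ := by group
      _ = n * ((n : G)⁻¹ * m * v) * (m : G)⁻¹ := by rw [hc]
      _ = m * v * (m : G)⁻¹ := by group
  let f : ↥N ⧸ S' → ↥(zInv (S : Subgroup G)) := fun q => Quotient.liftOn' q f₀ hf₀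
  have hfmk : ∀ n : ↥N, f (QuotientGroup.mk n) = f₀ n := fun n => rfl
  haveI := Fintype.ofFinite (↥N ⧸ S')
  set c := ∏ q : ↥N ⧸ S', f q with hc
  -- the product is fixed by the normaliser
  have hfix : ∀ m ∈ N, m * (c : G) * m⁻¹ = c := by
    intro m hm
    set μ : ↥(zInv (S : Subgroup G)) →* ↥(zInv (S : Subgroup G)) :=
      { toFun := fun x => ⟨m * x * m⁻¹, zInv_invariant S hm x.2⟩
        map_one' := Subtype.ext (by simp)
        map_mul' := fun x y => Subtype.ext (by simp [mul_assoc]) }
    have hμ : ∀ q, μ (f q) = f (QuotientGroup.mk (⟨m, hm⟩ : ↥N) * q) := by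
      intro q
      induction q using QuotientGroup.induction_on with
      | H n =>
        rw [← QuotientGroup.mk_mul, hfmk, hfmk]
        refine Subtype.ext ?_
        show m * ((n : G) * v * (n : G)⁻¹) * m⁻¹ = m * n * v * (m * n : G)⁻¹
        group
    have : μ c = c := by
      rw [hc, map_prod]
      simp_rw [hμ]
      exact Fintype.prod_equiv (Equiv.mulLeft (QuotientGroup.mk (⟨m, hm⟩ : ↥N) : ↥N ⧸ S')) _ _ fun q => rfl
    exact congrArg Subtype.val this
  -- parity
  have hmul : ∀ x ∈ zInv (S : Subgroup G), ∀ y ∈ zInv (S : Subgroup G),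
      (x * y ∈ B ↔ (x ∈ B ↔ y ∈ B)) := by
    intro x hx y hy
    constructor
    · intro h
      exact ⟨fun hx' => by simpa using mul_mem (inv_mem hx') h, fun hy' => by simpa using mul_mem h (inv_mem hy')⟩
    · intro hiff
      by_cases hx' : x ∈ B
      · exact mul_mem hx' (hiff.mp hx')
      · have h1 := (hsplit x hx).resolve_left hx'
        have h2 := (hsplit y hy).resolve_left (fun e => hx' (hiff.mpr e))
        have := mul_mem h1 h2
        rwa [show v * x * (v * y) = v * (x * v) * y by group, hv.2.2 x hx.1,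
          show v * (v * x) * y = v * v * (x * y) by group, hv.2.1, one_mul] at this
  have hpar : ∀ s : Finset (↥N ⧸ S'),
      ((((∏ q ∈ s, f q : ↥(zInv (S : Subgroup G))) : G) ∈ B) ↔ Even (s.filter fun q => (f q : G) ∉ B).card) := by
    intro s
    induction s using Finset.induction_on with
    | empty => simp
    | @insert q s hq ih =>
      rw [Finset.prod_insert hq, Subgroup.coe_mul, hmul _ (f q).2 _ (∏ q ∈ s, f q).2, ih, Finset.filter_insert]
      by_cases hfq : (f q : G) ∈ B
      · simp [hfq]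
      · rw [if_pos hfq, Finset.card_insert_of_notMem (fun e => hq (Finset.mem_filter.mp e).1), Nat.even_add_one]
        simp [hfq]
  have hcB : (c : G) ∉ B := by
    rw [hc, hpar, Nat.not_even_iff_odd]
    rcases hout with hout | hout
    · let Z : Subgroup ↥N := { carrier := {n | (n : G) * v * (n : G)⁻¹ = v}
                               one_mem' := by simp
                               mul_mem' := fun {a b} ha hb => by
                                 show (a * b : ↥N).1 * v * ((a * b : ↥N) : G)⁻¹ = v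
                                 rw [Subgroup.coe_mul, show (a : G) * b * v * ((a : G) * b)⁻¹ =
                                   (a : G) * (b * v * (b : G)⁻¹) * (a : G)⁻¹ by group]
                                 rw [hb, ha]
                               inv_mem' := fun {a} ha => by
                                 show ((a⁻¹ : ↥N) : G) * v * ((a⁻¹ : ↥N) : G)⁻¹ = v
                                 conv_lhs => rw [← ha, Subgroup.coe_inv]
                                 group }
      have hset : (Finset.univ.filter fun q => (f q : G) ∉ B) =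
          Finset.univ.filter fun q => q ∈ Z.map (QuotientGroup.mk' S') := by
        ext q
        induction q using QuotientGroup.induction_on with
        | H n =>
          simp only [Finset.mem_filter, Finset.mem_univ, true_and, hfmk]
          constructor
          · intro hn
            exact ⟨n, hout n n.2 hn, rfl⟩
          · rintro ⟨m, hm, e⟩
            have e' := hf₀ m n (Quotient.exact' e)
            rw [← e']
            show (m : G) * v * (m : G)⁻¹ ∉ B
            rw [show (m : G) * v * (m : G)⁻¹ = v from hm]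
            exact hvB
      rw [hset, ← Fintype.card_subtype, ← Nat.card_eq_fintype_card]
      exact hodd.of_dvd_nat (card_subgroup_dvd_card _)
    · have hset : (Finset.univ.filter fun q => (f q : G) ∉ B) = Finset.univ := by
        ext q
        induction q using QuotientGroup.induction_on with
        | H n =>
          simp only [Finset.mem_filter, Finset.mem_univ, true_and, iff_true, hfmk]
          exact hout n n.2
      rwa [hset, Finset.card_univ, ← Nat.card_eq_fintype_card]
  exact not_fixed hU hna c.2 (fun e => hcB (by rw [e]; exact one_mem B)) hfix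

/-- The shape is impossible. -/
theorem false_of_parts (hSna : ¬ IsMulCommutative ↥(S : Subgroup G)) {v : G}
    (hv : v ∈ zInv (S : Subgroup G)) (hv1 : v ≠ 1) {P R : Subgroup G} (hp : Parts (S : Subgroup G) v P R) :
    False := by
  classical
  have hsplit : ∀ a ∈ zInv (S : Subgroup G), a ∈ P ∨ v * a ∈ P := fun a ha => hp.invol a ha.1 ha.2.1
  by_cases hbig : ∃ r ∈ R, r ≠ 1 ∧ r ≠ v
  · -- a large 2-core
    obtain ⟨r₀, hr₀, hr₀1, hr₀v⟩ := hbig
    obtain ⟨r, hr, hrr⟩ : ∃ r ∈ R, r * r = v := by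
      obtain ⟨k, hk⟩ := (IsPGroup.iff_orderOf.mp S.isPGroup') ⟨r₀, hp.R_le hr₀⟩
      rw [← Subgroup.orderOf_coe] at hk
      change orderOf r₀ = 2 ^ k at hk
      obtain ⟨k, rfl⟩ : ∃ k', k = k' + 2 := by
        refine ⟨k - 2, ?_⟩
        by_contra hk2
        have hd : r₀ * r₀ = 1 := by
          rw [← pow_two]
          refine orderOf_dvd_iff_pow_eq_one.mp ?_
          rw [hk]
          exact (pow_dvd_pow 2 (by omega : k ≤ 1)).trans (by norm_num)
        exact (hp.R_invol r₀ hr₀ hd).elim hr₀1 hr₀v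
      refine ⟨r₀ ^ 2 ^ k, pow_mem hr₀ _, (hp.R_invol _ (mul_mem (pow_mem hr₀ _) (pow_mem hr₀ _)) ?_).resolve_left ?_⟩
      · rw [← pow_add, ← pow_add]
        refine orderOf_dvd_iff_pow_eq_one.mp ?_
        rw [hk, pow_add]
        exact dvd_of_eq (by ring)
      · intro e
        rw [← pow_add] at e
        have h1 := orderOf_dvd_of_pow_eq_one e
        rw [hk, show 2 ^ k + 2 ^ k = 2 ^ (k + 1) by rw [pow_succ]; ring] at h1
        have := Nat.pow_dvd_pow_iff_le_right (show 1 < 2 by norm_num) |>.mp h1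
        omega
    refine false_of_split hU hna S hv hv1 hp.notMem_P hsplit (Or.inl fun n hn hw => ?_)
    by_contra hwv
    set w := n * v * n⁻¹ with hwdef
    set R' := R.map (MulAut.conj n).toMonoidHom with hR'
    have hR'le : R' ≤ (S : Subgroup G) := by
      rintro _ ⟨x, hx, rfl⟩
      exact (mem_normalizer_iff.mp hn x).mp (hp.R_le hx)
    have hR'norm : (S : Subgroup G) ≤ normalizer (R' : Set G) := by
      intro s hs
      have hs' : n⁻¹ * s * n ∈ normalizer (R : Set G) := hp.R_norm ((mem_normalizer_iff''.mp hn s).mp hs)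
      have hconj : ∀ t ∈ normalizer (R : Set G), ∀ x ∈ R', (n * t * n⁻¹) * x * (n * t * n⁻¹)⁻¹ ∈ R' := by
        rintro t ht _ ⟨x, hx, rfl⟩
        refine ⟨t * x * t⁻¹, (mem_normalizer_iff.mp ht x).mp hx, ?_⟩
        show n * (t * x * t⁻¹) * n⁻¹ = n * t * n⁻¹ * (n * x * n⁻¹) * (n * t * n⁻¹)⁻¹
        group
      refine mem_normalizer_iff.mpr fun x => ⟨fun hx => ?_, fun hx => ?_⟩
      · have := hconj _ hs' x hx
        rwa [show n * (n⁻¹ * s * n) * n⁻¹ = s by group] at this
      · have := hconj _ (inv_mem hs') _ hx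
        rwa [show n * (n⁻¹ * s * n)⁻¹ * n⁻¹ = s⁻¹ by group, inv_inv,
          show s⁻¹ * (s * x * s⁻¹) * s = x by group] at this
    have hR'inv : ∀ x ∈ R', x * x = 1 → x = 1 ∨ x = w := by
      rintro _ ⟨x, hx, rfl⟩ h2
      have h2' : MulAut.conj n (x * x) = 1 := by rw [map_mul]; exact h2
      rw [map_eq_one_iff _ (MulAut.conj n).injective] at h2'
      rcases hp.R_invol x hx h2' with rfl | rfl
      · exact Or.inl (map_one _)
      · exact Or.inr rfl
    have hinf : ∀ Y : Subgroup G, Y ≤ (S : Subgroup G) → (∀ y ∈ Y, y ∈ R' → y * y = 1 → y ≠ 1 → False) →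
        ∀ y ∈ Y, y ∈ R' → y = 1 := by
      intro Y hY hno y hy hy'
      by_contra hy1
      obtain ⟨k, hk⟩ := (IsPGroup.iff_orderOf.mp S.isPGroup') ⟨y, hY hy⟩
      rw [← Subgroup.orderOf_coe] at hk
      change orderOf y = 2 ^ k at hk
      obtain ⟨k, rfl⟩ : ∃ k', k = k' + 1 :=
        Nat.exists_eq_succ_of_ne_zero fun e => hy1 (orderOf_eq_one_iff.mp (by rw [hk, e, pow_zero]))
      refine hno _ (pow_mem hy (2 ^ k)) (pow_mem hy' _) ?_ fun e => ?_
      · rw [← pow_add, show 2 ^ k + 2 ^ k = 2 ^ (k + 1) by rw [pow_succ]; ring, ← hk, pow_orderOf_eq_one]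
      · have := orderOf_dvd_of_pow_eq_one e
        rw [hk] at this
        have := Nat.pow_dvd_pow_iff_le_right (show 1 < 2 by norm_num) |>.mp this
        omega
    have hcomm : ∀ Y : Subgroup G, Y ≤ (S : Subgroup G) → (S : Subgroup G) ≤ normalizer (Y : Set G) →
        (∀ y ∈ Y, y ∈ R' → y * y = 1 → y ≠ 1 → False) → ∀ y ∈ Y, ∀ x ∈ R', Commute y x := by
      intro Y hY hYn hno y hy x hx
      have h1 : y * x * y⁻¹ * x⁻¹ ∈ R' := mul_mem ((mem_normalizer_iff.mp (hR'norm (hY hy)) x).mp hx) (inv_mem hx)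
      have h2 : y * x * y⁻¹ * x⁻¹ ∈ Y := by
        rw [show y * x * y⁻¹ * x⁻¹ = y * (x * y⁻¹ * x⁻¹) by group]
        exact mul_mem hy ((mem_normalizer_iff.mp (hYn (hR'le hx)) y⁻¹).mp (inv_mem hy))
      exact mul_inv_eq_iff_eq_mul.mp (mul_inv_eq_one.mp (hinf Y hY hno _ h2 h1))
    have hs : n * r * n⁻¹ ∈ R' := ⟨r, hr, rfl⟩
    have hss : n * r * n⁻¹ * (n * r * n⁻¹) = w := by rw [hwdef, ← hrr]; group
    rcases hp.no_root _ (hR'le hs)
      (fun p hpP => hcomm P hp.P_le hp.P_norm
        (fun y hy hy' h2 h1 => hw ((hR'inv y hy' h2).resolve_left h1 ▸ hy)) p hpP _ hs)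
      (fun x hx => hcomm R hp.R_le hp.R_norm
        (fun y hy hy' h2 h1 => hwv (((hR'inv y hy' h2).resolve_left h1).symm.trans
          ((hp.R_invol y hy h2).resolve_left h1))) x hx _ hs)
      (hss ▸ zInv_invariant S hn hv) with h | h
    · exact hw (hss ▸ h)
    · exact hwv (hss.symm.trans h)
  -- the 2-core has order two
  push Not at hbig
  have hRmem : ∀ r ∈ R, r = 1 ∨ r = v := fun r hr => or_iff_not_imp_left.mpr (hbig r hr)
  have hRc : ∀ r ∈ R, ∀ s ∈ (S : Subgroup G), Commute s r := by
    intro r hr s hs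
    rcases hRmem r hr with rfl | rfl
    · exact Commute.one_right s
    · exact hv.2.2 s hs
  have hRP : R ≤ normalizer (P : Set G) := hp.R_le.trans hp.P_norm
  have hdec : ∀ m ∈ P ⊔ R, ∃ p ∈ P, ∃ r ∈ R, m = p * r := by
    intro m hm
    have h : m ∈ (P : Set G) * (R : Set G) := by
      rw [← coe_mul_of_right_le_normalizer_left _ _ hRP]
      exact hm
    obtain ⟨p, hpP, r, hr, e⟩ := Set.mem_mul.mp h
    exact ⟨p, hpP, r, hr, e.symm⟩
  obtain ⟨g, hg, hcyc⟩ := hp.cyc
  by_cases hab : ∀ p ∈ P, ∀ q ∈ P, Commute p q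
  · -- abelian part: the centraliser of the involutions
    have hel := hp.elem hab
    let W : Subgroup G :=
      { carrier := {s | s ∈ (S : Subgroup G) ∧ ∀ x ∈ (S : Subgroup G), x * x = 1 → Commute s x}
        one_mem' := ⟨one_mem _, fun x _ _ => Commute.one_left x⟩
        mul_mem' := fun {a b} ha hb => ⟨mul_mem ha.1 hb.1, fun x hx h2 => (ha.2 x hx h2).mul_left (hb.2 x hx h2)⟩
        inv_mem' := fun {a} ha => ⟨inv_mem ha.1, fun x hx h2 => (ha.2 x hx h2).inv_left⟩ }
    have hWinv : ∀ n ∈ normalizer ((S : Subgroup G) : Set G), ∀ s ∈ W, n * s * n⁻¹ ∈ W := by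
      intro n hn s hs
      refine ⟨(mem_normalizer_iff.mp hn s).mp hs.1, fun x hx h2 => ?_⟩
      have h := hs.2 (n⁻¹ * x * n) ((mem_normalizer_iff''.mp hn x).mp hx)
        (by rw [show n⁻¹ * x * n * (n⁻¹ * x * n) = n⁻¹ * (x * x) * n by group, h2]; group)
      show n * s * n⁻¹ * x = x * (n * s * n⁻¹)
      calc n * s * n⁻¹ * x = n * (s * (n⁻¹ * x * n)) * n⁻¹ := by group
        _ = n * (n⁻¹ * x * n * s) * n⁻¹ := by rw [h.eq]
        _ = x * (n * s * n⁻¹) := by group
    have hPRW : P ⊔ R ≤ W := by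
      refine sup_le (fun p hpP => ⟨hp.P_le hpP, fun x hx h2 => ?_⟩)
        fun r hr => ⟨hp.R_le hr, fun x hx _ => (hRc r hr x hx).symm⟩
      rcases hp.invol x hx h2 with h | h
      · exact hab p hpP x h
      · have h1 : Commute p (v * x) := hab p hpP _ h
        have h2' : Commute p v := (hv.2.2 p (hp.P_le hpP))
        have := h2'.inv_right.mul_right h1
        rwa [inv_mul_cancel_left] at this
    have hWn : zpowers (g * g) ≤ normalizer (W : Set G) := zpowers_le.mpr (mem_normalizer_iff.mpr fun s => by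
      have hgN : g * g ∈ normalizer ((S : Subgroup G) : Set G) := le_normalizer (mul_mem hg hg)
      exact ⟨hWinv _ hgN s, fun h => by
        have := hWinv _ (inv_mem hgN) _ h
        rwa [inv_inv, show (g * g)⁻¹ * (g * g * s * (g * g)⁻¹) * (g * g) = s by group] at this⟩)
    set W2 := W ⊔ zpowers (g * g) with hW2
    have hW2S : W2 ≤ (S : Subgroup G) := sup_le (fun s hs => hs.1) (zpowers_le.mpr (mul_mem hg hg))
    have hgW : g ∉ W := by
      intro hgW
      refine hSna ⟨⟨fun a b => Subtype.ext ?_⟩⟩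
      have hall : ∀ s ∈ (S : Subgroup G), s ∈ W := fun s hs => by
        obtain ⟨i, hi⟩ := hcyc s hs
        have := mul_mem (hPRW hi) (zpow_mem hgW i)
        rwa [inv_mul_cancel_right] at this
      obtain ⟨i, hi⟩ := hcyc a a.2
      obtain ⟨j, hj⟩ := hcyc b b.2
      obtain ⟨p, hpP, r, hr, e⟩ := hdec _ hi
      obtain ⟨q, hqP, r', hr', e'⟩ := hdec _ hj
      have hgp : ∀ p ∈ P, Commute g p := fun p hpP => (hall g hg).2 p (hp.P_le hpP) (hel p hpP)
      have ha : (a : G) = p * r * g ^ i := by rw [← e, inv_mul_cancel_right]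
      have hb : (b : G) = q * r' * g ^ j := by rw [← e', inv_mul_cancel_right]
      have c1 : Commute (p * r) (q * r') :=
        (((hab p hpP q hqP).mul_right (hRc r' hr' p (hp.P_le hpP))).mul_left
          (((hRc r hr q (hp.P_le hqP)).symm).mul_right (hRc r' hr' r (hp.R_le hr))))
      have c2 : ∀ p ∈ P, ∀ r ∈ R, ∀ k : ℤ, Commute (g ^ k) (p * r) := fun p hpP r hr k =>
        ((hgp p hpP).mul_right (hRc r hr g hg)).zpow_left k
      show (a : G) * b = b * a
      rw [ha, hb]
      exact ((c1.mul_right (c2 p hpP r hr j).symm).mul_left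
        ((c2 q hqP r' hr' i).mul_right (Commute.zpow_zpow_self g i j))).eq
    have hgW2 : g ∉ W2 := by
      intro h
      have h' : g ∈ (W : Set G) * (zpowers (g * g) : Set G) := by
        rw [← coe_mul_of_right_le_normalizer_left _ _ hWn]
        exact h
      obtain ⟨w, hw, t, ht, e⟩ := Set.mem_mul.mp h'
      obtain ⟨i, rfl⟩ := mem_zpowers_iff.mp ht
      have hmem : g ^ (1 - 2 * i : ℤ) ∈ W := by
        have e2 : g * ((g * g) ^ i)⁻¹ = w := by
          conv_lhs => arg 1; rw [← e]
          rw [mul_inv_cancel_right]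
        rw [zpow_sub, zpow_one, zpow_mul, show g ^ (2 : ℤ) = g * g by rw [zpow_two], e2]
        exact hw
      obtain ⟨k, hk⟩ := CI.exists_orderOf_pow (S := S) hg
      obtain ⟨x, y, hxy⟩ : IsCoprime (1 - 2 * i : ℤ) ((2 : ℤ) ^ k) :=
        IsCoprime.pow_right ⟨1, i, by ring⟩
      refine hgW ?_
      have hk' : g ^ ((2 : ℤ) ^ k) = 1 := by
        rw [show ((2 : ℤ) ^ k) = ((2 ^ k : ℕ) : ℤ) by norm_num, zpow_natCast, hk]
      have h3 : g ^ (x * (1 - 2 * i) + y * (2 : ℤ) ^ k) ∈ W := by
        rw [zpow_add, mul_comm x, zpow_mul, mul_comm y, zpow_mul, hk', one_zpow, mul_one]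
        exact zpow_mem hmem x
      rwa [hxy, zpow_one] at h3
    have hsq : ∀ s ∈ (S : Subgroup G), s * s ∈ W2 := by
      intro s hs
      obtain ⟨i, hi⟩ := hcyc s hs
      set m := s * (g ^ i)⁻¹ with hm
      have e : s * s = (m * (g ^ i * m * (g ^ i)⁻¹)) * (g * g) ^ i := by
        rw [hm, (Commute.refl g).mul_zpow]
        group
      rw [e]
      exact mul_mem (mem_sup_left (mul_mem (hPRW hi) (hWinv _ (le_normalizer (zpow_mem hg i)) _ (hPRW hi))))
        (mem_sup_right (zpow_mem (mem_zpowers _) i))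
    have hW2inv : ∀ n ∈ normalizer ((S : Subgroup G) : Set G), ∀ s ∈ W2, n * s * n⁻¹ ∈ W2 := by
      intro n hn s hs
      have : W2.map (MulAut.conj n).toMonoidHom ≤ W2 := by
        rw [hW2, Subgroup.map_sup, MonoidHom.map_zpowers]
        refine sup_le ?_ (zpowers_le.mpr ?_)
        · rintro _ ⟨x, hx, rfl⟩
          exact mem_sup_left (hWinv n hn x hx)
        · show n * (g * g) * n⁻¹ ∈ W2
          rw [show n * (g * g) * n⁻¹ = n * g * n⁻¹ * (n * g * n⁻¹) by group]
          exact hsq _ ((mem_normalizer_iff.mp hn g).mp hg)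
      exact this ⟨s, hs, rfl⟩
    have hout : ∀ s ∈ (S : Subgroup G), s ∉ W2 → s * g⁻¹ ∈ W2 := by
      intro s hs hsW
      obtain ⟨i, hi⟩ := hcyc s hs
      rcases Int.even_or_odd i with ⟨j, rfl⟩ | ⟨j, rfl⟩
      · refine absurd ?_ hsW
        have := mul_mem (mem_sup_left (T := zpowers (g * g)) (hPRW hi))
          (mem_sup_right (S := W) (zpow_mem (mem_zpowers (g * g)) j))
        rwa [(Commute.refl g).mul_zpow, ← zpow_add, inv_mul_cancel_right] at this
      · have h1 := mem_sup_left (T := zpowers (g * g)) (hPRW hi)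
        have h2 := mem_sup_right (S := W) (zpow_mem (mem_zpowers (g * g)) j)
        have := mul_mem h1 h2
        rwa [show s * (g ^ (2 * j + 1))⁻¹ * (g * g) ^ j = s * g⁻¹ by
          rw [(Commute.refl g).mul_zpow]; group] at this
    refine false_of_trivial_quotient hU hna hv hv1 (W := W2) (fun h => hgW2 (h hg)) fun n hn s hs => ?_
    by_cases hsW : s ∈ W2
    · exact mul_mem (inv_mem hsW) (hW2inv n hn s hsW)
    · have h' : n * s * n⁻¹ ∉ W2 := fun h => hsW (by
        have := hW2inv n⁻¹ (inv_mem hn) _ h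
        rwa [show n⁻¹ * (n * s * n⁻¹) * n⁻¹⁻¹ = s by group] at this)
      have h1 := hout _ ((mem_normalizer_iff.mp hn s).mp hs) h'
      have h2 : g * s⁻¹ ∈ W2 := by simpa using inv_mem (hout s hs hsW)
      have hWn2 := hW2inv _ (le_normalizer (inv_mem hs)) _ (mul_mem h1 h2)
      rwa [inv_inv, show s⁻¹ * (n * s * n⁻¹ * g⁻¹ * (g * s⁻¹)) * s = s⁻¹ * (n * s * n⁻¹) by group] at hWn2
  · -- non-abelian part
    push Not at hab
    obtain ⟨p₀, hp₀, q₀, hq₀, hpq⟩ := hab
    have hder := hp.derived ⟨p₀, hp₀, q₀, hq₀, hpq⟩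
    set P' := P.subgroupOf (S : Subgroup G)
    haveI : P'.Normal :=
      normal_subgroupOf_iff_le_normalizer_inf.mpr ((le_inf hp.P_norm le_normalizer).trans
        inf_normalizer_le_normalizer_inf)
    have hcomm : ∀ a b : ↥(S : Subgroup G) ⧸ P', a * b = b * a := by
      have hrep : ∀ x : ↥(S : Subgroup G) ⧸ P', ∃ (i : ℤ) (r : ↥(S : Subgroup G)),
          (∀ s, Commute s r) ∧ x = QuotientGroup.mk r * (QuotientGroup.mk (⟨g, hg⟩ : ↥(S : Subgroup G))) ^ i := by
        intro x
        induction x using QuotientGroup.induction_on with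
        | H s =>
          obtain ⟨i, hi⟩ := hcyc s s.2
          obtain ⟨p, hpP, r, hr, e⟩ := hdec _ hi
          refine ⟨i, ⟨r, hp.R_le hr⟩, fun t => Subtype.ext (hRc r hr t t.2).eq, ?_⟩
          rw [← QuotientGroup.mk_zpow, ← QuotientGroup.mk_mul, eq_comm, QuotientGroup.eq]
          show ((r * g ^ i)⁻¹ * (s : G)) ∈ P
          have hs : (s : G) = p * r * g ^ i := by rw [← e, inv_mul_cancel_right]
          have hn : (r * g ^ i)⁻¹ ∈ normalizer (P : Set G) :=
            inv_mem (mul_mem (hRP hr) (hp.P_norm (zpow_mem hg i)))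
          have := (mem_normalizer_iff.mp hn p).mp hpP
          rwa [inv_inv, mul_assoc, show p * (r * g ^ i) = (s : G) by rw [hs, mul_assoc]] at this
      intro a b
      obtain ⟨i, r, hr, rfl⟩ := hrep a
      obtain ⟨j, r', hr', rfl⟩ := hrep b
      have hcr : ∀ (r : ↥(S : Subgroup G)) (_ : ∀ s, Commute s r) (y : ↥(S : Subgroup G) ⧸ P'),
          Commute (QuotientGroup.mk r : ↥(S : Subgroup G) ⧸ P') y := fun r hr y => by
        induction y using QuotientGroup.induction_on with
        | H s => exact (congrArg QuotientGroup.mk (hr s).eq).symm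
      exact (((hcr r hr _).mul_right (hcr r hr _)).mul_left
        (((hcr r' hr' _).symm).mul_right (Commute.zpow_zpow_self _ i j))).eq
    have hle : ⁅(S : Subgroup G), (S : Subgroup G)⁆ ≤ P := by
      rw [commutator_le]
      intro a ha b hb
      have h1 : (QuotientGroup.mk ⁅(⟨a, ha⟩ : ↥(S : Subgroup G)), ⟨b, hb⟩⁆ : ↥(S : Subgroup G) ⧸ P') = 1 := by
        rw [commutatorElement_def, QuotientGroup.mk_mul, QuotientGroup.mk_mul, QuotientGroup.mk_mul,
          QuotientGroup.mk_inv, QuotientGroup.mk_inv, hcomm (QuotientGroup.mk ⟨a, ha⟩)]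
        group
      have h2 : ⁅(⟨a, ha⟩ : ↥(S : Subgroup G)), ⟨b, hb⟩⁆ ∈ P' := (QuotientGroup.eq_one_iff _).mp h1
      exact h2
    refine false_of_split hU hna S hv hv1 hp.notMem_P hsplit (Or.inr fun n hn hw => hp.notMem_P ?_)
    have h1 : n * v * n⁻¹ ∈ ⁅(S : Subgroup G), (S : Subgroup G)⁆ :=
      commutator_mono hp.P_le hp.P_le (hder _ hw (zInv_invariant S hn hv).2.1)
    have hN : n⁻¹ ∈ normalizer ((⁅(S : Subgroup G), (S : Subgroup G)⁆ : Subgroup G) : Set G) := by
      rw [mem_normalizer_iff_map_conj_eq, map_commutator]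
      exact congrArg₂ (fun A B : Subgroup G => ⁅A, B⁆) (mem_normalizer_iff_map_conj_eq.mp (inv_mem hn))
        (mem_normalizer_iff_map_conj_eq.mp (inv_mem hn))
    have h2 := hle ((mem_normalizer_iff.mp hN _).mp h1)
    rwa [show n⁻¹ * (n * v * n⁻¹) * n⁻¹⁻¹ = v by group] at h2

end Cfsg.Agent.H91.RO
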