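import Cfsg.Agent.H91.RO.LocalShape
import Cfsg.Agent.H91.RO.Kill
import Cfsg.Agent.Coprime.Generation
import Cfsg.Agent.S1237
import Cfsg.Agent.Cores.Basic

/-!
# Non-abelian Sylow 2-subgroups

In a simple group with `Uniq` and non-abelian Sylow 2-subgroup `S` no centraliser of a central involution has
two Sylow 2-subgroups modulo its core, so either there is a strongly embedded subgroup or `S` has exactly three
involutions and is of `PSU₃(4)` type.
-/

set_option autoImplicit false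
set_option linter.style.haveILetI false
set_option linter.unusedSectionVars false

namespace Cfsg.Agent.H91.RO

open Subgroup Cfsg.Agent
open Cfsg.Agent.H91.CI (zInv zInv_le mem_zInv conj_mem_sylow_iff mem_of_mem_normalizer zInv_invariant
  EmbCriterion)
open scoped Pointwise commutatorElement

universe u

local instance fact_two_roGlobal : Fact (Nat.Prime 2) := ⟨Nat.prime_two⟩

variable {G : Type u} [Group G] [Finite G]

/-- The shape pulls back along an injection. -/
theorem parts_pull {H : Type u} [Group H] (S : Subgroup G) {v : G} (hvS : v ∈ S) {T : Subgroup H}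
    (ψ : ↥S →* H) (hinj : Function.Injective ψ) (hrange : ψ.range = T) {P R : Subgroup H}
    (hp : Parts T (ψ ⟨v, hvS⟩) P R) :
    Parts S v ((P.comap ψ).map S.subtype) ((R.comap ψ).map S.subtype) := by
  have hmem : ∀ (B : Subgroup H) (x : G), x ∈ (B.comap ψ).map S.subtype ↔ ∃ hx : x ∈ S, ψ ⟨x, hx⟩ ∈ B := by
    intro B x
    constructor
    · rintro ⟨⟨y, hy⟩, hyB, rfl⟩
      exact ⟨hy, hyB⟩
    · rintro ⟨hx, hB⟩
      exact ⟨⟨x, hx⟩, hB, rfl⟩
  have hT : ∀ y : ↥S, ψ y ∈ T := fun y => hrange ▸ ⟨y, rfl⟩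
  have hnorm : ∀ B : Subgroup H, T ≤ normalizer (B : Set H) → S ≤ normalizer (((B.comap ψ).map S.subtype : Subgroup G) : Set G) := by
    intro B hB s hs
    refine mem_normalizer_iff.mpr fun x => ?_
    rw [hmem, hmem]
    constructor
    · rintro ⟨hx, h⟩
      refine ⟨S.mul_mem (S.mul_mem hs hx) (S.inv_mem hs), ?_⟩
      have := (mem_normalizer_iff.mp (hB (hT ⟨s, hs⟩)) (ψ ⟨x, hx⟩)).mp h
      rwa [← map_inv, ← map_mul, ← map_mul] at this
    · rintro ⟨hx, h⟩
      have hx' : x ∈ S := by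
        have := S.mul_mem (S.mul_mem (S.inv_mem hs) hx) hs
        rwa [show s⁻¹ * (s * x * s⁻¹) * s = x by group] at this
      refine ⟨hx', (mem_normalizer_iff.mp (hB (hT ⟨s, hs⟩)) (ψ ⟨x, hx'⟩)).mpr ?_⟩
      rwa [← map_inv, ← map_mul, ← map_mul]
  have hle : ∀ B : Subgroup H, (B.comap ψ).map S.subtype ≤ S := fun B x hx => ((hmem B x).mp hx).1
  refine ⟨hle P, hle R, hnorm P hp.P_norm, hnorm R hp.R_norm, (hmem R v).mpr ⟨hvS, hp.mem_R⟩,
    fun h => hp.notMem_P ((hmem P v).mp h).2, ?_, ?_, ?_, ?_, ?_, ?_, ?_⟩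
  · intro x hx hx2
    obtain ⟨hxS, hxR⟩ := (hmem R x).mp hx
    rcases hp.R_invol _ hxR (by rw [← map_mul, show (⟨x, hxS⟩ : ↥S) * ⟨x, hxS⟩ = 1 from Subtype.ext hx2, map_one])
      with h | h
    · exact Or.inl (congrArg Subtype.val (hinj (h.trans (map_one ψ).symm)))
    · exact Or.inr (congrArg Subtype.val (hinj h))
  · refine le_bot_iff.mp fun x hx => mem_bot.mpr ?_
    obtain ⟨hxS, h1⟩ := (hmem P x).mp hx.1
    obtain ⟨_, h2⟩ := (hmem R x).mp hx.2
    have : ψ ⟨x, hxS⟩ = 1 := by rw [← mem_bot, ← hp.inf_eq]; exact ⟨h1, h2⟩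
    exact congrArg Subtype.val (hinj (this.trans (map_one ψ).symm))
  · intro x hxS hx2
    rcases hp.invol _ (hT ⟨x, hxS⟩)
      (by rw [← map_mul, show (⟨x, hxS⟩ : ↥S) * ⟨x, hxS⟩ = 1 from Subtype.ext hx2, map_one]) with h | h
    · exact Or.inl ((hmem P x).mpr ⟨hxS, h⟩)
    · exact Or.inr ((hmem P _).mpr ⟨S.mul_mem hvS hxS, by rwa [← map_mul] at h⟩)
  · obtain ⟨g, hg, hcyc⟩ := hp.cyc
    rw [← hrange] at hg
    obtain ⟨g, rfl⟩ := hg
    refine ⟨g, g.2, fun s hs => ?_⟩
    obtain ⟨i, hi⟩ := hcyc _ (hT ⟨s, hs⟩)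
    refine ⟨i, ?_⟩
    rw [← map_zpow, ← map_inv, ← map_mul] at hi
    have hPR : P ⊔ R = ((P.comap ψ) ⊔ (R.comap ψ)).map ψ := by
      rw [Subgroup.map_sup, map_comap_eq_self (hp.P_le.trans hrange.ge), map_comap_eq_self (hp.R_le.trans hrange.ge)]
    rw [hPR] at hi
    obtain ⟨y, hy, e⟩ := hi
    have := mem_map_of_mem S.subtype hy
    rw [Subgroup.map_sup, hinj e] at this
    exact this
  · intro s hs hsP hsR hss
    have key := hp.no_root _ (hT ⟨s, hs⟩) (fun p hpP => ?_) (fun r hr => ?_) ?_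
    · rcases key with h | h
      · exact Or.inl ((hmem P _).mpr ⟨S.mul_mem hs hs, by rwa [← map_mul] at h⟩)
      · rw [← map_mul] at h
        exact Or.inr (congrArg Subtype.val (hinj h))
    · obtain ⟨p, rfl⟩ : p ∈ ψ.range := hrange ▸ hp.P_le hpP
      show ψ p * ψ ⟨s, hs⟩ = ψ ⟨s, hs⟩ * ψ p
      rw [← map_mul, ← map_mul]
      exact congrArg ψ (Subtype.ext (hsP p ((hmem P p).mpr ⟨p.2, hpP⟩)).eq)
    · obtain ⟨p, rfl⟩ : r ∈ ψ.range := hrange ▸ hp.R_le hr
      show ψ p * ψ ⟨s, hs⟩ = ψ ⟨s, hs⟩ * ψ p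
      rw [← map_mul, ← map_mul]
      exact congrArg ψ (Subtype.ext (hsR p ((hmem R p).mpr ⟨p.2, hr⟩)).eq)
    · refine ⟨T.mul_mem (hT _) (hT _), ?_, fun t ht => ?_⟩
      · rw [← map_mul, ← map_mul, show ((⟨s, hs⟩ : ↥S) * ⟨s, hs⟩) * (⟨s, hs⟩ * ⟨s, hs⟩) = 1 from Subtype.ext hss.2.1,
          map_one]
      · rw [← hrange] at ht
        obtain ⟨t, rfl⟩ := ht
        rw [← map_mul, ← map_mul, ← map_mul]
        exact congrArg ψ (Subtype.ext (hss.2.2 t t.2))
  · intro hab x hx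
    obtain ⟨hxS, hxP⟩ := (hmem P x).mp hx
    have := hp.elem (fun p hpP q hqP => by
      obtain ⟨p', rfl⟩ : p ∈ ψ.range := hrange ▸ hp.P_le hpP
      obtain ⟨q', rfl⟩ : q ∈ ψ.range := hrange ▸ hp.P_le hqP
      show ψ p' * ψ q' = ψ q' * ψ p'
      rw [← map_mul, ← map_mul]
      exact congrArg ψ (Subtype.ext (hab p' ((hmem P p').mpr ⟨p'.2, hpP⟩) q' ((hmem P q').mpr ⟨q'.2, hqP⟩)).eq))
      _ hxP
    rw [← map_mul] at this
    exact congrArg Subtype.val (hinj (this.trans (map_one ψ).symm))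
  · rintro ⟨p, hpP, q, hqP, hne⟩ x hx hx2
    obtain ⟨hxS, hxP⟩ := (hmem P x).mp hx
    obtain ⟨hpS, hpP'⟩ := (hmem P p).mp hpP
    obtain ⟨hqS, hqP'⟩ := (hmem P q).mp hqP
    have h := hp.derived ⟨_, hpP', _, hqP', fun e => hne (by
      have e' : ψ (⟨p, hpS⟩ * ⟨q, hqS⟩) = ψ (⟨q, hqS⟩ * ⟨p, hpS⟩) := by rw [map_mul, map_mul]; exact e
      exact congrArg Subtype.val (hinj e'))⟩ _ hxP
      (by rw [← map_mul, show (⟨x, hxS⟩ : ↥S) * ⟨x, hxS⟩ = 1 from Subtype.ext hx2, map_one])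
    have e : ⁅P, P⁆ = (⁅P.comap ψ, P.comap ψ⁆).map ψ := by
      rw [map_commutator, map_comap_eq_self (hp.P_le.trans hrange.ge)]
    rw [e] at h
    obtain ⟨y, hy, ey⟩ := h
    have h2 := mem_map_of_mem S.subtype hy
    rw [map_commutator, hinj ey] at h2
    exact h2

/-- `C(v)` modulo its core has only one Sylow 2-subgroup. -/
def ClosedAt (S : Sylow 2 G) (v : G) : Prop :=
  centralizer ({v} : Set G) ≤ normalizer ((S : Subgroup G) : Set G) ⊔
    (Cfsg.oddCore ↥(centralizer ({v} : Set G))).map (centralizer ({v} : Set G)).subtype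

variable (hU : Uniq G) [IsSimpleGroup G] (hna : ¬ IsMulCommutative G) (S : Sylow 2 G)
  (hSna : ¬ IsMulCommutative ↥(S : Subgroup G))
include hU hna hSna

/-- Every central involution is closed. -/
theorem closedAt (h1174 : EmbCriterion.{u}) {v : G} (hv : v ∈ zInv (S : Subgroup G)) (hv1 : v ≠ 1) :
    ClosedAt S v := by
  classical
  obtain ⟨a, ha, ha1, hav⟩ := exists_pair hU hna S hv hv1
  set C := centralizer ({v} : Set G) with hC
  have hSC : (S : Subgroup G) ≤ C := fun s hs => mem_centralizer_singleton_iff.mpr (hv.2.2 s hs)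
  have hvC : v ∈ C := mem_centralizer_singleton_iff.mpr rfl
  set O := Cfsg.oddCore ↥C with hO
  set π := QuotientGroup.mk' O with hπdef
  have hπ : Function.Surjective π := QuotientGroup.mk'_surjective _
  set SC := S.subtype hSC
  set SQ := SC.mapSurjective hπ with hSQ
  have hO' : Cfsg.oddCore (↥C ⧸ O) = ⊥ := Cores.pPrimeCore_quotient_pPrimeCore (p := 2) (G := ↥C)
  have hodd : Odd (Nat.card ↥O) := Cores.odd_card_oddCore (G := ↥C)
  have hker : ∀ x : ↥C, ∀ k : ℕ, x ^ 2 ^ k = 1 → π x = 1 → x = 1 := fun x k hk h1 =>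
    orderOf_eq_one_iff.mp (Nat.eq_one_of_dvd_coprimes ((Nat.coprime_two_right.mpr hodd).pow_right k)
      (Subgroup.orderOf_dvd_natCard _ ((QuotientGroup.eq_one_iff x).mp h1)) (orderOf_dvd_of_pow_eq_one hk))
  have hSylG : ∀ T : Sylow 2 ↥C, ∃ U : Sylow 2 G, (U : Subgroup G) = (T : Subgroup ↥C).map C.subtype := by
    intro T
    obtain ⟨c, rfl⟩ := MulAction.exists_smul_eq ↥C SC T
    refine ⟨(c : G) • S, ?_⟩
    ext x
    constructor
    · rintro ⟨s, hs, rfl⟩
      exact ⟨c * ⟨s, hSC hs⟩ * c⁻¹, conj_mem_sylow_iff.mpr hs, rfl⟩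
    · rintro ⟨y, ⟨s, hs, rfl⟩, rfl⟩
      exact ⟨s, hs, rfl⟩
  set vQ := π ⟨v, hvC⟩ with hvQ
  have hv2 : orderOf vQ = 2 := by
    refine orderOf_two ?_ fun e => hv1 (congrArg Subtype.val (hker ⟨v, hvC⟩ 1 (Subtype.ext ?_) e))
    · rw [← map_mul, show (⟨v, hvC⟩ : ↥C) * ⟨v, hvC⟩ = 1 from Subtype.ext hv.2.1, map_one]
    · show v ^ 2 ^ 1 = 1
      rw [pow_one, pow_two, hv.2.1]
  have hvc : ∀ y : ↥C ⧸ O, Commute y vQ := by
    intro y
    obtain ⟨y, rfl⟩ := hπ y
    show π y * π _ = π _ * π y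
    rw [← map_mul, ← map_mul]
    exact congrArg π (Subtype.ext (mem_centralizer_singleton_iff.mp y.2))
  have huniq : UniqInv (↥C ⧸ O) vQ := by
    intro x hx hxv T₁ T₂ h1 h2
    obtain ⟨T₁, rfl⟩ := Sylow.mapSurjective_surjective hπ 2 T₁
    obtain ⟨T₂, rfl⟩ := Sylow.mapSurjective_surjective hπ 2 T₂
    rw [Sylow.coe_mapSurjective] at h1 h2
    obtain ⟨x, hxT, rfl⟩ := h1
    obtain ⟨k, hk⟩ := CI.exists_orderOf_pow hxT
    have hx2 : x * x = 1 := hker _ k
      (by rw [(Commute.refl x).mul_pow, hk, one_mul]) (by rw [map_mul]; exact sq_of_orderOf_two hx)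
    set M : Subgroup ↥C := ((T₂ : Subgroup ↥C).map π).comap π with hM
    have hTM : (T₂ : Subgroup ↥C) ≤ M := le_comap_map _ _
    have hxM : x ∈ M := h2
    obtain ⟨P, hP⟩ := (CI.isPGroup_zpowers (x := (⟨x, hxM⟩ : ↥M)) (k := 1)
      (Subtype.ext (by show x ^ 2 ^ 1 = 1; rw [pow_one, pow_two, hx2]))).exists_le_sylow
    obtain ⟨m, hm⟩ := MulAction.exists_smul_eq ↥M (T₂.subtype hTM) P
    have hxT' : x ∈ (((m : ↥C) • T₂ : Sylow 2 ↥C) : Subgroup ↥C) := by
      have h0 := hP (mem_zpowers (⟨x, hxM⟩ : ↥M))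
      rw [← hm] at h0
      obtain ⟨y, hy, e⟩ := h0
      exact ⟨y, hy, congrArg Subtype.val e⟩
    have himg : (((m : ↥C) • T₂ : Sylow 2 ↥C) : Subgroup ↥C).map π = (T₂ : Subgroup ↥C).map π := by
      have hmN : π (m : ↥C) ∈ normalizer (((T₂ : Subgroup ↥C).map π : Subgroup _) : Set (↥C ⧸ O)) :=
        le_normalizer (show π (m : ↥C) ∈ (T₂ : Subgroup ↥C).map π from m.2)
      conv_rhs => rw [← mem_normalizer_iff_map_conj_eq.mp hmN]
      show ((T₂ : Subgroup ↥C).map (MulAut.conj (m : ↥C)).toMonoidHom).map π =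
        ((T₂ : Subgroup ↥C).map π).map (MulAut.conj (π (m : ↥C))).toMonoidHom
      rw [map_map, map_map]
      exact congrArg (fun φ : ↥C →* ↥C ⧸ O => (T₂ : Subgroup ↥C).map φ) (MonoidHom.ext fun y => by simp)
    obtain ⟨U₁, hU₁⟩ := hSylG T₁
    obtain ⟨U₂, hU₂⟩ := hSylG ((m : ↥C) • T₂)
    have hvT : ∀ T : Sylow 2 ↥C, (⟨v, hvC⟩ : ↥C) ∈ (T : Subgroup ↥C) := fun T =>
      CI.mem_of_commutes (k := 1) (Subtype.ext (by show v ^ 2 ^ 1 = 1; rw [pow_one, pow_two, hv.2.1]))
        fun t _ => Subtype.ext (mem_centralizer_singleton_iff.mp t.2)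
    have e := hU v x (twoCentral_of_zInv hv hv1)
      (orderOf_two (congrArg Subtype.val hx2) fun e => ne_one_of_orderOf_two hx (by
        rw [show x = 1 from Subtype.ext e, map_one]))
      (fun e => hxv (congrArg π (Subtype.ext e))) (mem_centralizer_singleton_iff.mp x.2).symm U₁ U₂
      (by rw [hU₁]; exact ⟨_, hvT T₁, rfl⟩) (by rw [hU₁]; exact ⟨x, hxT, rfl⟩)
      (by rw [hU₂]; exact ⟨_, hvT _, rfl⟩) (by rw [hU₂]; exact ⟨x, hxT', rfl⟩)
    rw [e, hU₂] at hU₁
    refine Sylow.ext ?_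
    rw [Sylow.coe_mapSurjective, Sylow.coe_mapSurjective, ← himg, map_injective (subtype_injective C) hU₁]
  by_cases hnn : ∃ T : Sylow 2 (↥C ⧸ O), T ≠ SQ
  · exfalso
    set ψ : ↥(S : Subgroup G) →* ↥C ⧸ O := π.comp (inclusion hSC) with hψ
    have hinj : Function.Injective ψ := (injective_iff_map_eq_one _).mpr fun y hy => by
      obtain ⟨k, hk⟩ := S.isPGroup' y
      have := hker (inclusion hSC y) k (by rw [← map_pow, hk, map_one]) hy
      exact inclusion_injective hSC (this.trans (map_one _).symm)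
    have hrange : ψ.range = (SQ : Subgroup (↥C ⧸ O)) := by
      rw [hSQ, Sylow.coe_mapSurjective, hψ, MonoidHom.range_comp, inclusion_range]
      rfl
    have hzmem : ∀ {z : G} (hz : z ∈ zInv (S : Subgroup G)), ψ ⟨z, hz.1⟩ ∈ zInv (SQ : Subgroup (↥C ⧸ O)) := by
      intro z hz
      refine ⟨hrange ▸ ⟨_, rfl⟩, ?_, fun y hy => ?_⟩
      · rw [← map_mul, show (⟨z, hz.1⟩ : ↥(S : Subgroup G)) * ⟨z, hz.1⟩ = 1 from Subtype.ext hz.2.1, map_one]
      · rw [← hrange] at hy
        obtain ⟨y, rfl⟩ := hy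
        rw [← map_mul, ← map_mul]
        exact congrArg ψ (Subtype.ext (hz.2.2 y y.2))
    obtain ⟨P, R, hp⟩ := exists_parts hO' hv2 hvc huniq SQ hnn (hzmem ha)
      (fun e => ha1 (congrArg Subtype.val (hinj (e.trans (map_one ψ).symm))))
      (fun e => hav (congrArg Subtype.val (hinj (e.trans (show vQ = ψ ⟨v, hv.1⟩ from rfl))))) h1174
    exact false_of_parts hU hna S hSna hv hv1 (parts_pull (S : Subgroup G) hv.1 ψ hinj hrange hp)
  · push Not at hnn
    intro c hc
    set M : Subgroup ↥C := ((SC : Subgroup ↥C).map π).comap π with hM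
    have hSM : (SC : Subgroup ↥C) ≤ M := le_comap_map _ _
    have hcS : ((⟨c, hc⟩ : ↥C) • SC : Sylow 2 ↥C).mapSurjective hπ = SQ := hnn _
    have hcM : (((⟨c, hc⟩ : ↥C) • SC : Sylow 2 ↥C) : Subgroup ↥C) ≤ M := by
      intro y hy
      have := congrArg Sylow.toSubgroup hcS
      rw [hSQ, Sylow.coe_mapSurjective, Sylow.coe_mapSurjective] at this
      exact (this ▸ mem_map_of_mem π hy : π y ∈ (SC : Subgroup ↥C).map π)
    obtain ⟨m, hm⟩ := MulAction.exists_smul_eq ↥M (SC.subtype hSM)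
      (((⟨c, hc⟩ : ↥C) • SC : Sylow 2 ↥C).subtype hcM)
    have hm' : ((m : ↥C) : G) • S = c • S := by
      refine Sylow.ext ?_
      ext x
      constructor
      · rintro ⟨s, hs, rfl⟩
        have h1 : (m * ⟨⟨s, hSC hs⟩, hSM hs⟩ * m⁻¹ : ↥M) ∈ ((m • SC.subtype hSM : Sylow 2 ↥M) : Subgroup ↥M) :=
          conj_mem_sylow_iff.mpr hs
        rw [hm] at h1
        obtain ⟨s', hs', e⟩ := h1
        exact ⟨s', hs', congrArg (fun y : ↥C => (y : G)) e⟩
      · rintro ⟨s, hs, rfl⟩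
        have h1 : (⟨(⟨c, hc⟩ : ↥C) * ⟨s, hSC hs⟩ * (⟨c, hc⟩ : ↥C)⁻¹, hcM (conj_mem_sylow_iff.mpr hs)⟩ : ↥M) ∈
            ((((⟨c, hc⟩ : ↥C) • SC : Sylow 2 ↥C).subtype hcM : Sylow 2 ↥M) : Subgroup ↥M) :=
          conj_mem_sylow_iff.mpr hs
        rw [← hm] at h1
        obtain ⟨s', hs', e⟩ := h1
        exact ⟨((s' : ↥C) : G), hs', congrArg (fun y : ↥M => ((y : ↥C) : G)) e⟩
    have hmN : ((m : ↥C) : G) ∈ (S : Subgroup G) ⊔ O.map C.subtype := by
      have h2 : (m : ↥C) ∈ ((SC : Subgroup ↥C).map π).comap π := m.2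
      rw [comap_map_eq, hπdef, QuotientGroup.ker_mk'] at h2
      have h3 := mem_map_of_mem C.subtype h2
      rw [Subgroup.map_sup, Sylow.coe_subtype, subgroupOf_map_subtype, inf_eq_left.mpr hSC] at h3
      exact h3
    rw [show c = ((m : ↥C) : G) * (((m : ↥C) : G)⁻¹ * c) by group]
    refine mul_mem (sup_le_sup_right le_normalizer _ hmN) (mem_sup_left ?_)
    exact Sylow.smul_eq_iff_mem_normalizer.mp (by rw [mul_smul, ← hm', inv_smul_smul])

/-- The cores are centralised by `S` when there is an involution outside `⟨v, z⟩`. -/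
theorem oddCore_le (v : G) (hv : v ∈ zInv (S : Subgroup G)) (hv1 : v ≠ 1) {z x : G}
    (hz : z ∈ zInv (S : Subgroup G)) (hz1 : z ≠ 1) (hzv : z ≠ v) (hxS : x ∈ (S : Subgroup G))
    (hx : x * x = 1) (hx1 : x ≠ 1) (hxv : x ≠ v) (hxz : x ≠ z) (hxvz : x ≠ v * z) :
    (Cfsg.oddCore ↥(centralizer ({v} : Set G))).map (centralizer ({v} : Set G)).subtype ≤
      normalizer ((S : Subgroup G) : Set G) := by
  set C := centralizer ({v} : Set G)
  set O := (Cfsg.oddCore ↥C).map C.subtype with hO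
  have hcomm : Commute z x := (hz.2.2 x hxS).symm
  set A := closure ({z, x} : Set G) with hA
  haveI : IsMulCommutative ↥A := by
    refine isMulCommutative_closure ?_
    rintro a (rfl | rfl) b (rfl | rfl) <;> first | rfl | exact hcomm.eq | exact hcomm.eq.symm
  have hAS : A ≤ (S : Subgroup G) := by
    rw [hA, closure_le]
    rintro a (rfl | rfl)
    · exact hz.1
    · exact hxS
  have hAC : A ≤ C := hAS.trans fun s hs => mem_centralizer_singleton_iff.mpr (hv.2.2 s hs)
  have hAN : A ≤ normalizer (O : Set G) := hAC.trans (Components.le_normalizer_of_normal_subgroupOf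
    (map_subtype_le _) (by
      rw [hO, subgroupOf, comap_map_eq_self_of_injective (subtype_injective _)]
      infer_instance))
  have hOodd : Odd (Nat.card ↥O) := by
    rw [hO, card_map_of_injective (subtype_injective _)]
    exact Cores.odd_card_oddCore
  have hcop : (Nat.card ↥A).Coprime (Nat.card ↥O) := by
    obtain ⟨n, hn⟩ := IsPGroup.iff_card.mp (S.isPGroup'.to_le hAS)
    rw [hn]
    exact Nat.Coprime.pow_left n (Nat.prime_two.coprime_iff_not_dvd.mpr hOodd.not_two_dvd_nat)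
  have hfix : ∀ w ∈ (S : Subgroup G), w * w = 1 → w ≠ 1 → w ≠ v →
      O ⊓ centralizer ({w} : Set G) ≤ normalizer ((S : Subgroup G) : Set G) := by
    rintro w hw hw2 hw1 hwv o ⟨hoO, how⟩
    refine Sylow.smul_eq_iff_mem_normalizer.mp (hU v w (twoCentral_of_zInv hv hv1) (orderOf_two hw2 hw1) hwv
      (hv.2.2 w hw).symm (o • S) S ?_ ?_ hv.1 hw)
    · exact ⟨v, hv.1, by
        show o * v * o⁻¹ = v
        rw [mem_centralizer_singleton_iff.mp (map_subtype_le _ hoO), mul_inv_cancel_right]⟩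
    · exact ⟨w, hw, by
        show o * w * o⁻¹ = w
        rw [mem_centralizer_singleton_iff.mp how, mul_inv_cancel_right]⟩
  refine Coprime.le_of_centralizer_le (A := A) (p := 2) (x := z) (y := x) (subset_closure (Or.inl rfl))
    (subset_closure (Or.inr rfl)) O _ hAN hcop
    (Nat.prime_two.coprime_iff_not_dvd.mpr hOodd.not_two_dvd_nat) ?_ ?_ (hfix x hxS hx hx1 hxv) fun i hi => ?_
  · rw [pow_two, hz.2.1]; exact one_mem _
  · rw [pow_two, hx]; exact one_mem _
  · interval_cases i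
    · rw [pow_zero, mul_one]
      exact hfix z hz.1 hz.2.1 hz1 hzv
    · rw [pow_one]
      refine hfix (z * x) (mul_mem hz.1 hxS) ?_ (fun e => hxz ?_) (fun e => hxvz ?_)
      · calc z * x * (z * x) = z * (x * z) * x := by group
          _ = z * (z * x) * x := by rw [hcomm.eq]
          _ = (z * z) * (x * x) := by group
          _ = 1 := by rw [hz.2.1, hx, one_mul]
      · rw [← inv_eq_of_mul_eq_one_right e, inv_eq_of_mul_eq_one_right hz.2.1]
      · rw [← e, hcomm.eq, mul_assoc, hz.2.1, mul_one]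

/-- The non-abelian case. -/
theorem se_or_unitary (h1174 : EmbCriterion.{u})
    (h486 : ∀ (F : Type) [Field F] [Fintype F], Fintype.card F = 16 → ∀ (P : Sylow 2 (Cfsg.PSU 3 F 4)),
      Nonempty ((S : Subgroup G) ≃* (P : Subgroup (Cfsg.PSU 3 F 4))) → Nonempty (G ≃* Cfsg.PSU 3 F 4)) :
    (∃ M : Subgroup G, Cfsg.IsStronglyEmbedded M) ∨
      ∃ (F : Type) (_ : Field F) (_ : Fintype F), Fintype.card F = 16 ∧ Nonempty (G ≃* Cfsg.PSU 3 F 4) := by
  classical
  set A := zInv (S : Subgroup G) with hA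
  have hAne : A ≠ ⊥ := CI.zInv_ne_bot hSna
  obtain ⟨v, hv, hv1⟩ : ∃ v ∈ A, v ≠ 1 := by
    by_contra hall
    push Not at hall
    exact hAne (le_bot_iff.mp fun y hy => mem_bot.mpr (hall y hy))
  obtain ⟨z, hz, hz1, hzv⟩ := exists_pair hU hna S hv hv1
  by_cases hbig : ∃ x ∈ (S : Subgroup G), x * x = 1 ∧ x ≠ 1 ∧ x ≠ v ∧ x ≠ z ∧ x ≠ v * z
  · -- rank at least three: the normaliser of `S` contains all the centralisers
    left
    have hle : ∀ u ∈ A, u ≠ 1 → centralizer ({u} : Set G) ≤ normalizer ((S : Subgroup G) : Set G) := by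
      intro u hu hu1
      refine (closedAt hU hna S hSna h1174 hu hu1).trans (sup_le le_rfl ?_)
      obtain ⟨x, hxS, hx2, hx1, hxv, hxz, hxvz⟩ := hbig
      obtain ⟨w, hw, hw1, hwu⟩ : ∃ w ∈ A, w ≠ 1 ∧ w ≠ u := exists_pair hU hna S hu hu1
      -- one of five involutions lies outside `⟨u, w⟩`
      by_cases hin : ∀ y ∈ ({v, z, v * z, x} : Finset G), y ∈ ({u, w, u * w} : Finset G)
      · exfalso
        have hvz1 : v * z ≠ 1 := fun e => hzv (by
          rw [← inv_eq_of_mul_eq_one_right e, inv_eq_of_mul_eq_one_right hv.2.1])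
        have hvzv : v * z ≠ v := fun e => hz1 (mul_eq_left.mp e)
        have hvzz : v * z ≠ z := fun e => hv1 (mul_eq_right.mp e)
        have h4 : ({v, z, v * z, x} : Finset G).card = 4 := by
          rw [Finset.card_insert_of_notMem, Finset.card_insert_of_notMem, Finset.card_pair hxvz.symm]
          · simp [hxz.symm, hvzz.symm]
          · simp [hzv.symm, hxv.symm, hvzv.symm]
        have h3 : ({u, w, u * w} : Finset G).card ≤ 3 := Finset.card_le_three
        have := Finset.card_le_card hin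
        omega
      push Not at hin
      obtain ⟨y, hy, hyn⟩ := hin
      simp only [Finset.mem_insert, Finset.mem_singleton, not_or] at hy hyn
      have hvz : v * z ∈ A := mul_mem hv hz
      have hy' : y ∈ (S : Subgroup G) ∧ y * y = 1 ∧ y ≠ 1 := by
        rcases hy with rfl | rfl | rfl | rfl
        · exact ⟨hv.1, hv.2.1, hv1⟩
        · exact ⟨hz.1, hz.2.1, hz1⟩
        · exact ⟨hvz.1, hvz.2.1, fun e => hzv (by
            rw [← inv_eq_of_mul_eq_one_right e, inv_eq_of_mul_eq_one_right hv.2.1])⟩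
        · exact ⟨hxS, hx2, hx1⟩
      exact oddCore_le hU hna S hSna u hu hu1 hw hw1 hwu hy'.1 hy'.2.1 hy'.2.2 hyn.1 hyn.2.1 hyn.2.2
    refine h1174 G inferInstance S A hAne ?_ (ne_top_of_le_ne_top
      (b := normalizer ((S : Subgroup G) : Set G)) ?_ (iSup_le fun t => ?_))
    · refine ⟨zInv_le _, fun y hy g hg => ?_⟩
      obtain ⟨n, hn, e⟩ := exists_conj_normalizer hU hv hv1 hz hz1 hzv hy.1 hg
      exact e ▸ zInv_invariant S hn hy
    · exact CI.normalizer_ne_top (CI.sylow_ne_bot hSna) fun e => by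
        haveI : Nontrivial G := IsSimpleGroup.toNontrivial
        haveI : Group.IsNilpotent G := by
          have hp : IsPGroup 2 ↥(⊤ : Subgroup G) := e ▸ S.isPGroup'
          exact (hp.of_equiv topEquiv).isNilpotent
        rcases (inferInstance : (center G).Normal).eq_bot_or_eq_top with e' | e'
        · exact Group.IsNilpotent.center_ne_bot (G := G) e'
        · exact hna ⟨⟨fun a b => (mem_center_iff.mp (e' ▸ mem_top b : b ∈ center G) a)⟩⟩
    · exact hle t t.2.1 (ne_one_of_orderOf_two t.2.2)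
  · -- rank two
    push Not at hbig
    right
    have hinv : ∀ x ∈ (S : Subgroup G), x * x = 1 → x = 1 ∨ x = v ∨ x = z ∨ x = v * z := by
      intro x hx h2
      by_cases h1 : x = 1
      · exact Or.inl h1
      by_cases hxv : x = v
      · exact Or.inr (Or.inl hxv)
      by_cases hxz : x = z
      · exact Or.inr (Or.inr (Or.inl hxz))
      exact Or.inr (Or.inr (Or.inr (hbig x hx h2 h1 hxv hxz)))
    obtain ⟨n, hn, hnv⟩ : ∃ n ∈ normalizer ((S : Subgroup G) : Set G), n * v * n⁻¹ ≠ v := by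
      by_contra h
      push Not at h
      exact not_fixed hU hna hv hv1 h
    set φ : MulAut ↥(S : Subgroup G) := (S : Subgroup G).normalizerMonoidHom ⟨n, hn⟩ with hφ
    have hφapp : ∀ (k : ℕ) (y : ↥(S : Subgroup G)), (((φ ^ k) y : ↥(S : Subgroup G)) : G) = n ^ k * y * (n ^ k)⁻¹ := by
      intro k y
      rw [hφ, ← map_pow]
      rfl
    have horb : ∀ k : ℕ, n ^ k * v * (n ^ k)⁻¹ = v ∨ n ^ k * v * (n ^ k)⁻¹ = z ∨ n ^ k * v * (n ^ k)⁻¹ = v * z := by
      intro k
      have hm := zInv_invariant S (pow_mem hn k) hv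
      refine (hinv _ hm.1 hm.2.1).resolve_left fun e => hv1 ?_
      calc v = (n ^ k)⁻¹ * (n ^ k * v * (n ^ k)⁻¹) * n ^ k := by group
        _ = 1 := by rw [e]; group
    -- the orbit of `v` under `n` has three elements
    have hn2 : n ^ 2 * v * (n ^ 2)⁻¹ ≠ v := by
      intro e
      obtain ⟨k, m, hm, hnm⟩ : ∃ k m : ℕ, ¬ 2 ∣ m ∧ orderOf n = 2 ^ k * m :=
        Nat.exists_eq_pow_mul_and_not_dvd (orderOf_pos n).ne' 2 (by norm_num)
      have hnmS : n ^ m ∈ (S : Subgroup G) := mem_of_mem_normalizer S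
        (CI.isPGroup_zpowers (k := k) (by rw [← pow_mul, mul_comm, ← hnm, pow_orderOf_eq_one]))
        (zpowers_le.mpr (pow_mem hn m)) (mem_zpowers _)
      have h1 : n ^ m * v * (n ^ m)⁻¹ = v := by rw [hv.2.2 _ hnmS, mul_inv_cancel_right]
      obtain ⟨j, rfl⟩ : ∃ j, m = 2 * j + 1 := ⟨m / 2, by omega⟩
      have h2 : ∀ i : ℕ, (n ^ 2) ^ i * v * ((n ^ 2) ^ i)⁻¹ = v := by
        intro i
        induction i with
        | zero => simp
        | succ i ih =>
          calc (n ^ 2) ^ (i + 1) * v * ((n ^ 2) ^ (i + 1))⁻¹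
              = n ^ 2 * ((n ^ 2) ^ i * v * ((n ^ 2) ^ i)⁻¹) * (n ^ 2)⁻¹ := by rw [pow_succ' (n ^ 2)]; group
            _ = v := by rw [ih, e]
      refine hnv ?_
      calc n * v * n⁻¹ = n * ((n ^ 2) ^ j * v * ((n ^ 2) ^ j)⁻¹) * n⁻¹ := by rw [h2]
        _ = n ^ (2 * j + 1) * v * (n ^ (2 * j + 1))⁻¹ := by
            rw [show n ^ (2 * j + 1) = n * (n ^ 2) ^ j by rw [← pow_mul, ← pow_succ'], mul_inv_rev]
            simp only [mul_assoc]
        _ = v := h1
    have hne12 : n ^ 1 * v * (n ^ 1)⁻¹ ≠ n ^ 2 * v * (n ^ 2)⁻¹ := fun e => hnv (by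
      calc n * v * n⁻¹ = n⁻¹ * (n ^ 2 * v * (n ^ 2)⁻¹) * n := by group
        _ = n⁻¹ * (n ^ 1 * v * (n ^ 1)⁻¹) * n := by rw [e]
        _ = v := by group)
    have hall : ∀ y ∈ (S : Subgroup G), y * y = 1 → y ≠ 1 → ∃ k ≤ 2, n ^ k * v * (n ^ k)⁻¹ = y := by
      intro y hy hy2 hy1
      rcases (hinv y hy hy2).resolve_left hy1 with rfl | rfl | rfl
      · exact ⟨0, by omega, by simp⟩
      · rcases horb 1 with h | h | h
        · exact absurd (by simpa using h) hnv
        · exact ⟨1, by omega, h⟩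
        · rcases horb 2 with h' | h' | h'
          · exact absurd h' hn2
          · exact ⟨2, le_rfl, h'⟩
          · exact absurd (h.trans h'.symm) hne12
      · rcases horb 1 with h | h | h
        · exact absurd (by simpa using h) hnv
        · rcases horb 2 with h' | h' | h'
          · exact absurd h' hn2
          · exact absurd (h.trans h'.symm) hne12
          · exact ⟨2, le_rfl, h'⟩
        · exact ⟨1, by omega, h⟩
    have htrans : ∀ s t : ↥(S : Subgroup G), orderOf s = 2 → orderOf t = 2 → ∃ k : ℕ, (φ ^ k) s = t := by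
      intro s t hs ht
      rw [← Subgroup.orderOf_coe] at hs ht
      obtain ⟨i, -, hi⟩ := hall s s.2 (sq_of_orderOf_two hs) (ne_one_of_orderOf_two hs)
      obtain ⟨j, -, hj⟩ := hall t t.2 (sq_of_orderOf_two ht) (ne_one_of_orderOf_two ht)
      obtain ⟨k, hk⟩ : ∃ k, n ^ k = n ^ j * (n ^ i)⁻¹ := by
        have hmem : n ^ j * (n ^ i)⁻¹ ∈ zpowers n :=
          mul_mem (pow_mem (mem_zpowers n) j) (inv_mem (pow_mem (mem_zpowers n) i))
        exact (mem_powers_iff_mem_zpowers.mpr hmem)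
      refine ⟨k, Subtype.ext ?_⟩
      rw [hφapp, hk, ← hi, ← hj]
      group
    have hr2 : Cfsg.PRankLE 2 2 ↥(S : Subgroup G) := by
      intro B _ hB
      let f : ↥B → ↥({1, v, z, v * z} : Finset G) := fun b => ⟨((b : ↥(S : Subgroup G)) : G), by
        have := congrArg Subtype.val (hB _ b.2)
        rw [SubmonoidClass.coe_pow, OneMemClass.coe_one, pow_two] at this
        simpa using hinv _ (b : ↥(S : Subgroup G)).2 this⟩
      have hf : Function.Injective f := fun b b' e => by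
        have e' := congrArg Subtype.val e
        exact Subtype.ext (Subtype.ext e')
      refine (Nat.card_le_card_of_injective f hf).trans ?_
      rw [Nat.card_eq_fintype_card, Fintype.card_coe]
      exact Finset.card_le_four
    have hr1 : ¬ Cfsg.PRankLE 2 1 ↥(S : Subgroup G) := by
      intro h
      haveI := zInv_isMulCommutative (S : Subgroup G)
      have hB : IsMulCommutative ↥((A).subgroupOf (S : Subgroup G)) := ⟨⟨fun a b => Subtype.ext (Subtype.ext
        (b.2.2.2 _ a.2.1))⟩⟩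
      have := h _ hB fun a ha => Subtype.ext (by rw [SubmonoidClass.coe_pow, OneMemClass.coe_one, pow_two]; exact ha.2.1)
      rw [Nat.card_congr (subgroupOfEquivOfLe (zInv_le (S : Subgroup G))).toEquiv] at this
      let g : Fin 3 → ↥A := ![1, ⟨v, hv⟩, ⟨z, hz⟩]
      have hg : Function.Injective g := by
        have e : ∀ i, (g i : G) = ![1, v, z] i := fun i => by fin_cases i <;> rfl
        intro i j hij
        have h' : (![1, v, z] : Fin 3 → G) i = ![1, v, z] j := by rw [← e, ← e, hij]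
        fin_cases i <;> fin_cases j <;>
          first
            | rfl
            | exact absurd h' hv1
            | exact absurd h'.symm hv1
            | exact absurd h' hz1
            | exact absurd h'.symm hz1
            | exact absurd h' hzv
            | exact absurd h'.symm hzv
      have h3 := Nat.card_le_card_of_injective g hg
      rw [← hA] at this
      rw [Nat.card_eq_fintype_card, Fintype.card_fin] at h3
      omega
    haveI : Fintype (GaloisField 2 4) := Fintype.ofFinite _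
    have hF : Fintype.card (GaloisField 2 4) = 16 := by
      rw [← Nat.card_eq_fintype_card, GaloisField.card 2 4 (by norm_num)]
      norm_num
    obtain ⟨P⟩ : Nonempty (Sylow 2 (Cfsg.PSU 3 (GaloisField 2 4) 4)) := inferInstance
    rcases S1237.result S.isPGroup' hr2 hr1 φ htrans hF P with ⟨k, -, ⟨e⟩⟩ | he
    · exact absurd ⟨⟨fun a b => e.injective (by rw [map_mul, map_mul, mul_comm])⟩⟩ hSna
    · exact ⟨GaloisField 2 4, _, _, hF, h486 _ hF P he⟩

end Cfsg.Agent.H91.RO
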