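import Cfsg.Agent.H91.RO.SimpleTI
import Cfsg.Agent.H91.CI.Global
import Cfsg.Agent.Components.CyclicSylow
import Cfsg.Agent.S0542
import Cfsg.Agent.S0215

/-!
# Core-free groups with a central involution `v` in which other involutions lie in one Sylow 2-subgroup

If a Sylow 2-subgroup is not normal and its centre has a second involution, there is a simple component `K`
with a strongly embedded subgroup, and `S` is an extension of `(S ∩ K) × O₂` by a cyclic group.
-/

set_option autoImplicit false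
set_option linter.style.haveILetI false
set_option linter.unusedSectionVars false

namespace Cfsg.Agent.H91.RO

open Subgroup Cfsg.Agent
open Cfsg.Agent.H91.CI (zInv zInv_le mem_zInv conj_mem_sylow_iff mem_of_mem_normalizer zInv_invariant
  exists_noncentral exists_sylow_component center_component_le pCore_le_sylow)
open scoped Pointwise commutatorElement

universe u

local instance fact_two_roLocal : Fact (Nat.Prime 2) := ⟨Nat.prime_two⟩

/-- Involutions other than `v` lie in at most one Sylow 2-subgroup. -/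
def UniqInv (H : Type*) [Group H] (v : H) : Prop :=
  ∀ x : H, orderOf x = 2 → x ≠ v → ∀ S T : Sylow 2 H, x ∈ (S : Subgroup H) → x ∈ (T : Subgroup H) → S = T

/-- The shape of a Sylow 2-subgroup `S` around the central involution `v`: `P` is the part in the
component and `R` the part in the 2-core. -/
structure Parts {G : Type*} [Group G] (S : Subgroup G) (v : G) (P R : Subgroup G) : Prop where
  P_le : P ≤ S
  R_le : R ≤ S
  P_norm : S ≤ normalizer (P : Set G)
  R_norm : S ≤ normalizer (R : Set G)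
  mem_R : v ∈ R
  notMem_P : v ∉ P
  R_invol : ∀ x ∈ R, x * x = 1 → x = 1 ∨ x = v
  inf_eq : P ⊓ R = ⊥
  invol : ∀ x ∈ S, x * x = 1 → x ∈ P ∨ v * x ∈ P
  cyc : ∃ g ∈ S, ∀ s ∈ S, ∃ i : ℤ, s * (g ^ i)⁻¹ ∈ P ⊔ R
  no_root : ∀ s ∈ S, (∀ p ∈ P, Commute p s) → (∀ r ∈ R, Commute r s) → s * s ∈ zInv S →
    s * s ∈ P ∨ s * s = v
  elem : (∀ p ∈ P, ∀ q ∈ P, Commute p q) → ∀ p ∈ P, p * p = 1
  derived : (∃ p ∈ P, ∃ q ∈ P, ¬ Commute p q) → ∀ p ∈ P, p * p = 1 → p ∈ ⁅P, P⁆

variable {H : Type u} [Group H] [Finite H]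

/-- An involution of a subgroup normalised by another involution commutes with an involution commuting with both,
in the product. -/
theorem exists_between {M : Subgroup H} {x y : H} (hx : x * x = 1) (hy : y * y = 1) (hy1 : y ≠ 1)
    (hyM : y ∈ M) (hxM : x ∉ M) (hxN : x ∈ normalizer (M : Set H)) :
    ∃ w : H, orderOf w = 2 ∧ Commute x w ∧ Commute y w ∧
      ((w ∈ M ∧ ∃ u : H, u * u = w ∧ x * u * x⁻¹ = u⁻¹) ∨ x * w ∈ M) := by
  set d := x * y with hd
  have hmem : ∀ i : ℕ, (Even i → d ^ i ∈ M) ∧ (Odd i → x * d ^ i ∈ M) := by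
    intro i
    induction i with
    | zero => exact ⟨fun _ => by rw [pow_zero]; exact one_mem M, fun h => absurd h (by decide)⟩
    | succ i ih =>
      have hconj : ∀ m ∈ M, x * m * x ∈ M := fun m hm => by
        have := (mem_normalizer_iff.mp hxN m).mp hm
        rwa [inv_eq_of_mul_eq_one_right hx] at this
      refine ⟨fun hev => ?_, fun hod => ?_⟩
      · have hi : Odd i := (Nat.even_add_one.mp hev) |> Nat.not_even_iff_odd.mp
        have h2 := M.mul_mem (hconj _ (ih.2 hi)) hyM
        rw [pow_succ]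
        rwa [show x * (x * d ^ i) * x * y = (x * x) * d ^ i * (x * y) by group, hx, one_mul] at h2
      · have hi : Even i := by
          rcases Nat.even_or_odd i with h | h
          · exact h
          · exact absurd hod (by simp [h.add_one])
        have h2 := M.mul_mem (hconj _ (ih.1 hi)) hyM
        rw [pow_succ, show x * (d ^ i * d) = x * d ^ i * x * y by rw [hd]; group]
        exact h2
  have hev : Even (orderOf d) := by
    rw [← Nat.not_odd_iff_even]
    intro ho
    have := (hmem _).2 ho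
    rw [pow_orderOf_eq_one, mul_one] at this
    exact hxM this
  obtain ⟨m, hm⟩ := hev
  have hdm : orderOf d = 2 * m := by omega
  have hxd : x * d * x⁻¹ = d⁻¹ := by
    rw [hd, mul_inv_rev, inv_eq_of_mul_eq_one_right hx, inv_eq_of_mul_eq_one_right hy, ← mul_assoc, hx, one_mul]
  have hyd : y * d * y⁻¹ = d⁻¹ := by
    rw [hd, mul_inv_rev, inv_eq_of_mul_eq_one_right hx, inv_eq_of_mul_eq_one_right hy, mul_assoc, mul_assoc, hy,
      mul_one]
  have hinv : (d ^ m)⁻¹ = d ^ m := inv_eq_of_mul_eq_one_right (by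
    rw [← pow_add, ← two_mul, ← hdm, pow_orderOf_eq_one])
  have hw : orderOf (d ^ m) = 2 := by
    have hpos := orderOf_pos d
    rw [orderOf_pow' d (by omega : m ≠ 0), hdm, Nat.gcd_eq_right (dvd_mul_left m 2),
      Nat.mul_div_cancel _ (by omega : 0 < m)]
  refine ⟨d ^ m, hw, ?_, ?_, ?_⟩
  · have := (conj_pow (i := m) (a := x) (b := d)).symm
    rw [hxd, inv_pow, hinv] at this
    exact mul_inv_eq_iff_eq_mul.mp this
  · have := (conj_pow (i := m) (a := y) (b := d)).symm
    rw [hyd, inv_pow, hinv] at this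
    exact mul_inv_eq_iff_eq_mul.mp this
  · rcases Nat.even_or_odd m with h | h
    · obtain ⟨m', hm'⟩ := id h
      refine Or.inl ⟨(hmem m).1 h, d ^ m', ?_, ?_⟩
      · rw [← pow_add, ← hm']
      · rw [← conj_pow, hxd, inv_pow]
    · exact Or.inr ((hmem m).2 h)

variable (hO : Cfsg.oddCore H = ⊥) {v : H} (hv : orderOf v = 2) (hvc : ∀ h : H, Commute h v)
  (hU : UniqInv H v) (S : Sylow 2 H)
include hO hv hvc hU

omit hO in
theorem mem_sylow (T : Sylow 2 H) : v ∈ (T : Subgroup H) :=
  CI.mem_of_commutes (k := 1) (by rw [pow_one, pow_two, sq_of_orderOf_two hv]) fun t _ => hvc t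

omit hO in
theorem centralizer_le_normalizer_of_inv {x : H} (hx : orderOf x = 2) (hxv : x ≠ v)
    (hxS : x ∈ (S : Subgroup H)) : centralizer ({x} : Set H) ≤ normalizer ((S : Subgroup H) : Set H) := by
  intro g hg
  refine Sylow.smul_eq_iff_mem_normalizer.mp (hU x hx hxv _ S ?_ hxS)
  exact ⟨x, hxS, by
    show g * x * g⁻¹ = x
    rw [mem_centralizer_singleton_iff.mp hg, mul_inv_cancel_right]⟩

omit hO in
theorem mem_normalizer_of_conj {x g : H} (hx : orderOf x = 2) (hxv : x ≠ v)
    (hxS : x ∈ (S : Subgroup H)) (hg : g * x * g⁻¹ ∈ (S : Subgroup H)) :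
    g ∈ normalizer ((S : Subgroup H) : Set H) := by
  refine Sylow.smul_eq_iff_mem_normalizer.mp (hU (g * x * g⁻¹) ((orderOf_conj_eq g x).trans hx) (fun e => hxv ?_)
    _ S (conj_mem_sylow_iff.mpr hxS) hg)
  calc x = g⁻¹ * (g * x * g⁻¹) * g := by group
    _ = g⁻¹ * (v * g) := by rw [e, mul_assoc]
    _ = v := by rw [← (hvc g).eq, inv_mul_cancel_left]

omit hO in
/-- The involutions of the 2-core. -/
theorem pCore_invol (hnn : ∃ T : Sylow 2 H, T ≠ S) {x : H} (hx : x ∈ Cfsg.pCore 2 H) (hx2 : x * x = 1) :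
    x = 1 ∨ x = v := by
  by_contra hall
  push Not at hall
  obtain ⟨T, hT⟩ := hnn
  exact hT (hU x (orderOf_two hx2 hall.1) hall.2 T S (pCore_le_sylow T hx) (pCore_le_sylow S hx))

/-- A component normalises no Sylow 2-subgroup. -/
theorem not_le_normalizer {L : Subgroup H} (hL : Cfsg.IsComponent L) (T : Sylow 2 H) :
    ¬ L ≤ normalizer ((T : Subgroup H) : Set H) := by
  intro hle
  obtain ⟨k, hk, hne⟩ := CI.exists_moved hO hL T
  exact hne (by rw [Sylow.smul_eq_iff_mem_normalizer.mpr (hle hk)])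

/-- The involution `v` is the only one that can centralise a component. -/
theorem eq_of_centralizes {L : Subgroup H} (hL : Cfsg.IsComponent L) {x : H} (hx : orderOf x = 2)
    (hxL : x ∈ centralizer (L : Set H)) : x = v := by
  by_contra hxv
  obtain ⟨T, hT⟩ := (IsPGroup.of_card (n := 1) (show Nat.card ↥(zpowers x) = 2 ^ 1 by
    rw [Nat.card_zpowers, hx, pow_one])).exists_le_sylow
  refine not_le_normalizer hO hv hvc hU hL T fun l hl =>
    centralizer_le_normalizer_of_inv hv hvc hU T hx hxv (hT (mem_zpowers x)) ?_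
  exact mem_centralizer_singleton_iff.mpr (mem_centralizer_iff.mp hxL l hl)

/-- An involution of `S` acting on a component lies in it, up to `v`, unless the component has no involution
other than `v`. -/
theorem mem_or_of_invol {K : Subgroup H} (hK : Cfsg.IsComponent K) {x : H} (hxS : x ∈ (S : Subgroup H))
    (hx : x * x = 1) (hxv : x ≠ v) (hxN : x ∈ normalizer (K : Set H)) (hw : v ∈ K → x ∈ zInv (S : Subgroup H))
    {y : H} (hyK : y ∈ K) (hy : orderOf y = 2) (hyv : y ≠ v) : x ∈ K ∨ v * x ∈ K := by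
  by_contra hall
  push Not at hall
  have hx1 : x ≠ 1 := fun e => hall.1 (e ▸ one_mem K)
  have hinS : ∀ y' ∈ K, orderOf y' = 2 → y' ∈ (S : Subgroup H) := by
    intro y' hy'K hy'
    obtain ⟨w, hwo, hcx, hcy, hwM⟩ := exists_between hx (sq_of_orderOf_two hy') (ne_one_of_orderOf_two hy')
      hy'K hall.1 hxN
    have hwN := centralizer_le_normalizer_of_inv hv hvc hU S (orderOf_two hx hx1) hxv hxS
      (mem_centralizer_singleton_iff.mpr hcx.eq.symm)
    have hwS : w ∈ (S : Subgroup H) := mem_of_mem_normalizer S (IsPGroup.of_card (n := 1)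
      (by rw [Nat.card_zpowers, hwo, pow_one])) (zpowers_le.mpr hwN) (mem_zpowers w)
    rcases eq_or_ne w v with rfl | hwv
    · rcases hwM with ⟨h, u, hu, hxu⟩ | h
      · exfalso
        have hxz := hw h
        have hwi : w⁻¹ = w := inv_eq_of_mul_eq_one_right (sq_of_orderOf_two hv)
        have e : u * x * u⁻¹ = w * x := by
          rw [mul_assoc, show x * u⁻¹ = u * x by
            rw [← hxu, ← mul_assoc, ← mul_assoc, hx, one_mul, inv_eq_of_mul_eq_one_right hx],
            ← mul_assoc, hu]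
        have huN := mem_normalizer_of_conj hv hvc hU S (g := u) (orderOf_two hx hx1) hxv hxS
          (e ▸ mul_mem hwS hxS)
        have huS : u ∈ (S : Subgroup H) := mem_of_mem_normalizer S (CI.isPGroup_zpowers (k := 2)
          (by rw [show (2 : ℕ) ^ 2 = 2 + 2 from rfl, pow_add, pow_two, hu, sq_of_orderOf_two hv]))
          (zpowers_le.mpr huN) (mem_zpowers u)
        rw [hxz.2.2 u huS, mul_inv_cancel_right] at e
        exact ne_one_of_orderOf_two hv (mul_eq_right.mp e.symm)
      · refine absurd ?_ hall.2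
        rwa [← (hvc x).eq]
    · exact mem_of_mem_normalizer S (IsPGroup.of_card (n := 1) (by rw [Nat.card_zpowers, hy', pow_one]))
        (zpowers_le.mpr (centralizer_le_normalizer_of_inv hv hvc hU S hwo hwv hwS
          (mem_centralizer_singleton_iff.mpr hcy.eq))) (mem_zpowers y')
  refine not_le_normalizer hO hv hvc hU hK S fun k hk => ?_
  exact mem_normalizer_of_conj hv hvc hU S hy hyv (hinS y hyK hy)
    (hinS _ (K.mul_mem (K.mul_mem hk hyK) (K.inv_mem hk)) ((orderOf_conj_eq k y).trans hy))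

omit hv hvc hU in
/-- A 2-element of `Z(S)` normalising a component. -/
theorem normalizes_component {K : Subgroup H} (hK : Cfsg.IsComponent K) {a : H}
    (ha : a ∈ zInv (S : Subgroup H)) : a ∈ normalizer (K : Set H) := by
  refine Components.mem_normalizer_of_map_conj_eq ?_
  by_contra hne
  obtain ⟨p, hpS, hpK, hp⟩ := exists_noncentral hO hK S
  have hfix : a * p * a⁻¹ = p := by rw [← ha.2.2 p hpS, mul_inv_cancel_right]
  exact hp fun l hl => (Components.commute_of_commutator_eq_bot
    (Components.components_commute hK (Components.component_conj hK a) (Ne.symm hne)) hl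
    (show p ∈ K.map (MulAut.conj a).toMonoidHom from ⟨p, hpK, hfix⟩))

variable (hnn : ∃ T : Sylow 2 H, T ≠ S) {a : H} (ha : a ∈ zInv (S : Subgroup H)) (ha1 : a ≠ 1) (hav : a ≠ v)
include hnn ha ha1 hav

/-- Some component has an involution other than `v`. -/
theorem exists_component_invol :
    ∃ K : Subgroup H, Cfsg.IsComponent K ∧ ∃ y ∈ K, orderOf y = 2 ∧ y ≠ v := by
  have haR : a ∉ Cfsg.pCore 2 H := fun e => (pCore_invol hv hvc hU S hnn e ha.2.1).elim ha1 hav
  have hacR : a ∈ centralizer (Cfsg.pCore 2 H : Set H) :=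
    mem_centralizer_iff.mpr fun r hr => ha.2.2 r (pCore_le_sylow S hr)
  obtain ⟨K, hK, haK⟩ : ∃ K : Subgroup H, Cfsg.IsComponent K ∧ a ∉ centralizer (K : Set H) := by
    by_contra hall
    push Not at hall
    exact haR (CI.mem_pCore_of_centralizes hO (fun L hL => hall L hL) hacR)
  refine ⟨K, hK, ?_⟩
  by_contra hall
  push Not at hall
  have haN := normalizes_component hO S hK ha
  have haKne : a ∉ K := fun e => hav (hall a e (orderOf_two ha.2.1 ha1))
  set M : Subgroup H := K ⊔ zpowers a with hM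
  have hKM : K ≤ M := le_sup_left
  have haM : a ∈ M := mem_sup_right (mem_zpowers a)
  have hMmem : ∀ g ∈ M, g ∈ K ∨ g * a ∈ K := by
    intro g hg
    have h : g ∈ ((K : Subgroup H) : Set H) * (zpowers a : Set H) := by
      rw [← coe_mul_of_right_le_normalizer_left _ _ (zpowers_le.mpr haN)]
      exact hg
    obtain ⟨k, hk, t, ht, rfl⟩ := Set.mem_mul.mp h
    obtain ⟨i, rfl⟩ := mem_zpowers_iff.mp ht
    have ha2 : a ^ (2 : ℤ) = 1 := by rw [zpow_two]; exact ha.2.1
    rcases Int.even_or_odd i with ⟨j, rfl⟩ | ⟨j, rfl⟩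
    · left; rw [← two_mul, zpow_mul, ha2, one_zpow, mul_one]; exact hk
    · right
      rw [zpow_add, zpow_mul, ha2, one_zpow, one_mul, zpow_one, mul_assoc, ha.2.1, mul_one]
      exact hk
  obtain ⟨P, hP⟩ := exists_sylow_component hK S
  have hp : IsPGroup 2 ↥((((S : Subgroup H) ⊓ M).subgroupOf M)) :=
    (S.isPGroup'.to_le inf_le_left).comap_of_injective M.subtype M.subtype_injective
  obtain ⟨P₀, hP₀⟩ := hp.exists_le_sylow
  have haP₀ : (⟨a, haM⟩ : ↥M) ∈ (P₀ : Subgroup ↥M) := hP₀ ⟨ha.1, haM⟩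
  have hP₀S : ∀ g ∈ (P₀ : Subgroup ↥M), (g : H) ∈ (S : Subgroup H) := by
    have hK' : ∀ g ∈ (P₀ : Subgroup ↥M), (g : H) ∈ K → (g : H) ∈ (S : Subgroup H) := by
      intro g hg hgK
      have h1 := P.3 ((P₀.isPGroup'.map M.subtype).comap_of_injective K.subtype K.subtype_injective)
        (fun x hx => by
          rw [hP] at hx
          exact ⟨⟨x, hKM x.2⟩, hP₀ ⟨hx, hKM x.2⟩, rfl⟩)
      rw [hP] at h1
      have h2 : (⟨g, hgK⟩ : ↥K) ∈ (S : Subgroup H).subgroupOf K := h1 ▸ ⟨g, hg, rfl⟩
      exact h2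
    intro g hg
    rcases hMmem g g.2 with h | h
    · exact hK' g hg h
    · have := mul_mem (hK' (g * ⟨a, haM⟩) (mul_mem hg haP₀) h) ha.1
      rwa [Subgroup.coe_mul, mul_assoc, ha.2.1, mul_one] at this
  obtain ⟨N, hN, hodd, hcomm⟩ := S0215.result P₀ (⟨a, haM⟩ : ↥M)
    ((Subgroup.orderOf_mk a haM).trans (orderOf_two ha.2.1 ha1)) haP₀ fun g hg => by
    refine Subtype.ext ?_
    show (g : H) * a * (g : H)⁻¹ = a
    have hgS : (g : H) * a * (g : H)⁻¹ ∈ (S : Subgroup H) := hP₀S _ hg
    set a' := (g : H) * a * (g : H)⁻¹ with ha'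
    have ha'2 : a' * a' = 1 := by
      rw [ha', show (g : H) * a * (g : H)⁻¹ * ((g : H) * a * (g : H)⁻¹) = g * (a * a) * (g : H)⁻¹ by group,
        ha.2.1, mul_one, mul_inv_cancel]
    have ha'K : a' * a ∈ K := by
      rcases hMmem a' (M.mul_mem (M.mul_mem g.2 haM) (M.inv_mem g.2)) with h | h
      · exfalso
        have h1 : orderOf a' = 2 := (orderOf_conj_eq (g : H) a).trans (orderOf_two ha.2.1 ha1)
        have h2 := hall a' h h1
        apply hav
        calc a = (g : H)⁻¹ * a' * g := by rw [ha']; group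
          _ = v := by rw [h2, mul_assoc, ← (hvc _).eq, inv_mul_cancel_left]
      · exact h
    have hsq : (a' * a) * (a' * a) = 1 := by
      have := ha.2.2 a' hgS
      calc a' * a * (a' * a) = a' * (a * a') * a := by group
        _ = a' * (a' * a) * a := by rw [this]
        _ = (a' * a') * (a * a) := by group
        _ = 1 := by rw [ha'2, ha.2.1, one_mul]
    rcases eq_or_ne (a' * a) 1 with e | e
    · rw [← inv_eq_of_mul_eq_one_right ha.2.1, eq_inv_iff_mul_eq_one]
      exact e
    · have e2 : a' = v * a := by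
        rw [← hall _ ha'K (orderOf_two hsq e), mul_assoc, ha.2.1, mul_one]
      have hgN := mem_normalizer_of_conj hv hvc hU S (g := (g : H)) (orderOf_two ha.2.1 ha1) hav ha.1 hgS
      -- a normalising element cannot move `a` to `v * a`
      obtain ⟨k, mo, hmo, hgo⟩ : ∃ k mo : ℕ, ¬ 2 ∣ mo ∧ orderOf (g : H) = 2 ^ k * mo :=
        Nat.exists_eq_pow_mul_and_not_dvd (orderOf_pos (g : H)).ne' 2 (by norm_num)
      have hgm : (g : H) ^ mo ∈ (S : Subgroup H) := mem_of_mem_normalizer S
        (CI.isPGroup_zpowers (k := k) (by rw [← pow_mul, mul_comm, ← hgo, pow_orderOf_eq_one]))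
        (zpowers_le.mpr (pow_mem hgN mo)) (mem_zpowers _)
      have hpow : ∀ i : ℕ, (g : H) ^ i * a * ((g : H) ^ i)⁻¹ = v ^ i * a := by
        intro i
        induction i with
        | zero => simp
        | succ i ih =>
          calc (g : H) ^ (i + 1) * a * ((g : H) ^ (i + 1))⁻¹ = g * ((g : H) ^ i * a * ((g : H) ^ i)⁻¹) * (g : H)⁻¹ := by
                rw [pow_succ']; group
            _ = g * v ^ i * a * (g : H)⁻¹ := by rw [ih, ← mul_assoc]
            _ = v ^ i * (g * a * (g : H)⁻¹) := by rw [((hvc (g : H)).pow_right i).eq]; group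
            _ = v ^ i * (v * a) := by rw [← ha', e2]
            _ = v ^ (i + 1) * a := by rw [pow_succ, mul_assoc]
      have h1 := hpow mo
      rw [ha.2.2 _ hgm, mul_inv_cancel_right] at h1
      obtain ⟨j, hj⟩ : ∃ j, mo = 2 * j + 1 := ⟨mo / 2, by omega⟩
      rw [hj, pow_add, pow_mul, pow_two, sq_of_orderOf_two hv, one_pow, one_mul, pow_one] at h1
      exact absurd (mul_eq_right.mp h1.symm) (ne_one_of_orderOf_two hv)
  refine haK (mem_centralizer_iff.mpr fun k hk => ?_)
  set kM : ↥M := ⟨k, hKM hk⟩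
  set c := (⟨a, haM⟩ : ↥M) * kM * (⟨a, haM⟩ : ↥M)⁻¹ * kM⁻¹ with hc
  have hcN : c ∈ N := hcomm kM
  have hcK : (c : H) ∈ K := K.mul_mem ((mem_normalizer_iff.mp haN k).mp hk) (K.inv_mem hk)
  set N' : Subgroup ↥K := (N.map M.subtype).subgroupOf K with hN'
  have hN'odd : Odd (Nat.card ↥N') := by
    have h1 : Nat.card ↥N' = Nat.card ↥((N.map M.subtype) ⊓ K : Subgroup H) := by
      rw [hN', ← inf_subgroupOf_right, Nat.card_congr (subgroupOfEquivOfLe inf_le_right).toEquiv]
    rw [h1]
    exact hodd.of_dvd_nat ((card_dvd_of_le inf_le_left).trans (card_map_dvd _ M.subtype))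
  haveI : N'.Normal := by
    refine ⟨fun x hx l => ?_⟩
    obtain ⟨n, hn, e⟩ := hx
    refine ⟨(⟨l, hKM l.2⟩ : ↥M) * n * (⟨l, hKM l.2⟩ : ↥M)⁻¹, hN.conj_mem n hn _, ?_⟩
    show (l : H) * n * (l : H)⁻¹ = (l : H) * x * (l : H)⁻¹
    rw [show (n : H) = x from e]
  have hne : N' ≠ ⊤ := fun e => by
    rw [e, card_top] at hN'odd
    exact hN'odd.not_two_dvd_nat (Components.dvd_card_component (p := 2) hO hK)
  have hcZ : (⟨c, hcK⟩ : ↥K) ∈ center ↥K :=
    Components.qs_normal_le_center hK.2 N' hne (show (⟨c, hcK⟩ : ↥K) ∈ N' from ⟨c, hcN, rfl⟩)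
  have hcR := center_component_le hO hK hcK fun l hl => congrArg Subtype.val (mem_center_iff.mp hcZ ⟨l, hl⟩)
  obtain ⟨j, hj⟩ := (show IsPGroup 2 ↥(Cfsg.pCore 2 H) from Components.isPGroup_pCore 2) ⟨c, hcR⟩
  have hc1 : (c : H) = 1 := orderOf_eq_one_iff.mp (Nat.eq_one_of_dvd_coprimes
    ((Nat.coprime_two_right.mpr hodd).pow_right j)
    ((Subgroup.orderOf_coe c).symm ▸ N.orderOf_dvd_natCard hcN)
    (orderOf_dvd_of_pow_eq_one (congrArg Subtype.val hj)))
  have : a * k * a⁻¹ * k⁻¹ = 1 := hc1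
  exact (mul_inv_eq_iff_eq_mul.mp (mul_inv_eq_one.mp this)).symm

end Cfsg.Agent.H91.RO
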