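import Cfsg.Agent.H91.RO.Local

/-!
# Core-free groups with a central involution `v`: the component and the shape of `S`
-/

set_option autoImplicit false
set_option linter.style.haveILetI false
set_option linter.unusedSectionVars false

namespace Cfsg.Agent.H91.RO

open Subgroup Cfsg.Agent
open Cfsg.Agent.H91.CI (zInv zInv_le mem_zInv conj_mem_sylow_iff mem_of_mem_normalizer zInv_invariant
  exists_noncentral exists_sylow_component center_component_le pCore_le_sylow EmbCriterion CentralInter)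
open scoped Pointwise commutatorElement

universe u

local instance fact_two_roShape : Fact (Nat.Prime 2) := ⟨Nat.prime_two⟩

variable {H : Type u} [Group H] [Finite H] (hO : Cfsg.oddCore H = ⊥) {v : H} (hv : orderOf v = 2)
  (hvc : ∀ h : H, Commute h v) (hU : UniqInv H v) (S : Sylow 2 H) (hnn : ∃ T : Sylow 2 H, T ≠ S)
include hO hv hvc hU hnn

/-- A central quotient of the component, being simple, has a strongly embedded subgroup. -/
theorem exists_se_quot (h1174 : EmbCriterion.{u}) {K : Subgroup H} (hK : Cfsg.IsComponent K) {t : H}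
    (htK : t ∈ K) (ht : t ∈ zInv (S : Subgroup H)) (ht1 : t ≠ 1) (htv : t ≠ v) {Y : Type u} [Group Y] [Finite Y]
    [IsSimpleGroup Y] (hY : ¬ IsMulCommutative Y) {π : ↥K →* Y} (hπ : Function.Surjective π)
    (hker : π.ker ≤ center ↥K) : ∃ M : Subgroup Y, Cfsg.IsStronglyEmbedded M := by
  obtain ⟨P, hP⟩ := exists_sylow_component hK S
  set Q := P.mapSurjective hπ with hQ
  have hkerP : π.ker ≤ (P : Subgroup ↥K) := hker.trans (CI.center_le_sylow hO hK P)
  have hQP : ∀ k : ↥K, π k ∈ (Q : Subgroup Y) → (k : H) ∈ (S : Subgroup H) := by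
    intro k hk
    rw [hQ, Sylow.coe_mapSurjective] at hk
    have h1 : k ∈ ((P : Subgroup ↥K).map π).comap π := hk
    rw [comap_map_eq, sup_eq_left.mpr hkerP, hP] at h1
    exact h1
  have hPQ : ∀ k : ↥K, (k : H) ∈ (S : Subgroup H) → π k ∈ (Q : Subgroup Y) := by
    intro k hk
    rw [hQ, Sylow.coe_mapSurjective]
    exact mem_map_of_mem π (by rw [hP]; exact hk)
  have hnoncentral : ∀ x : ↥K, (x : H) ∈ zInv (S : Subgroup H) → (x : H) ≠ 1 → (x : H) ≠ v → π x ≠ 1 := by
    intro x hx hx1 hxv e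
    have hc := hker (MonoidHom.mem_ker.mpr e)
    have := center_component_le hO hK x.2 fun l hl => congrArg Subtype.val (mem_center_iff.mp hc ⟨l, hl⟩)
    exact (pCore_invol hv hvc hU S hnn this hx.2.1).elim hx1 hxv
  set T : Subgroup Y := ((zInv (S : Subgroup H)).subgroupOf K).map π with hT
  have hTne : T ≠ ⊥ := fun e => hnoncentral ⟨t, htK⟩ ht ht1 htv (mem_bot.mp (e ▸ ⟨⟨t, htK⟩, ht, rfl⟩))
  have htriv : ∀ x : ↥K, (x : H) ∈ zInv (S : Subgroup H) → ((x : H) = 1 ∨ (x : H) = v) → ∀ l : ↥K,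
      π (l * x * l⁻¹) = π x := by
    intro x _ hx l
    refine congrArg π (Subtype.ext ?_)
    show (l : H) * x * (l : H)⁻¹ = x
    rcases hx with e | e <;> rw [e]
    · rw [mul_one, mul_inv_cancel]
    · rw [(hvc (l : H)).eq, mul_inv_cancel_right]
  have hmove : ∀ x : ↥K, (x : H) ∈ zInv (S : Subgroup H) → (x : H) ≠ 1 → (x : H) ≠ v → ∀ l : ↥K,
      π (l * x * l⁻¹) ∈ (Q : Subgroup Y) → (l : H) ∈ normalizer ((S : Subgroup H) : Set H) :=
    fun x hx hx1 hxv l hl =>
      mem_normalizer_of_conj hv hvc hU S (orderOf_two hx.2.1 hx1) hxv hx.1 (hQP _ hl)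
  have hclosed : Cfsg.IsStronglyClosed T (Q : Subgroup Y) := by
    refine ⟨?_, ?_⟩
    · rintro _ ⟨x, hx, rfl⟩
      exact hPQ x hx.1
    · rintro _ ⟨x, hx, rfl⟩ g hg
      obtain ⟨l, rfl⟩ := hπ g
      rw [← map_inv, ← map_mul, ← map_mul] at hg ⊢
      by_cases h : (x : H) = 1 ∨ (x : H) = v
      · rw [htriv x hx h l]
        exact mem_map_of_mem π hx
      · push Not at h
        refine mem_map_of_mem π ?_
        exact zInv_invariant S (hmove x hx h.1 h.2 l hg) hx
  refine h1174 Y inferInstance Q T hTne hclosed (ne_top_of_le_ne_top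
    (b := normalizer ((Q : Subgroup Y) : Set Y)) ?_ (iSup_le fun s => ?_))
  · obtain ⟨U, hU'⟩ : ∃ U : Sylow 2 Y, U ≠ Q := CI.exists_ne_sylow hY Q fun e =>
      hnoncentral ⟨t, htK⟩ ht ht1 htv (mem_bot.mp (e ▸ hPQ ⟨t, htK⟩ ht.1))
    obtain ⟨g, rfl⟩ := MulAction.exists_smul_eq Y Q U
    exact fun e => hU' (Sylow.smul_eq_iff_mem_normalizer.mpr (e ▸ mem_top g))
  · obtain ⟨x, hx, e⟩ := s.2.1
    have hx1 : π x ≠ 1 := fun e1 => ne_one_of_orderOf_two s.2.2 (e ▸ e1)
    intro g hg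
    obtain ⟨l, rfl⟩ := hπ g
    have hlx : π (l * x * l⁻¹) = π x := by
      rw [map_mul, map_mul, map_inv, e, mem_centralizer_singleton_iff.mp hg, mul_inv_cancel_right]
    have hx1' : (x : H) ≠ 1 := fun e1 => hx1 (by rw [show x = 1 from Subtype.ext e1, map_one])
    have hN : ∀ l : ↥K, π (l * x * l⁻¹) = π x → (l : H) ∈ normalizer ((S : Subgroup H) : Set H) := by
      intro l hl
      by_cases hxv : (x : H) = v
      · exfalso
        refine hx1 (MonoidHom.mem_ker.mp ?_)
        exact (show π.ker = center ↥K from le_antisymm hker fun z hz => by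
          have : π z ∈ center Y := mem_center_iff.mpr fun w => by
            obtain ⟨w, rfl⟩ := hπ w
            rw [← map_mul, ← map_mul, mem_center_iff.mp hz w]
          rcases (inferInstance : (center Y).Normal).eq_bot_or_eq_top with eb | et
          · exact MonoidHom.mem_ker.mpr (mem_bot.mp (eb ▸ this))
          · exact absurd ⟨⟨fun a b => mem_center_iff.mp (et ▸ mem_top b : b ∈ center Y) a⟩⟩ hY) ▸
          mem_center_iff.mpr fun w => Subtype.ext (show (w : H) * x = x * w by rw [hxv]; exact hvc _)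
      · exact hmove x hx hx1' hxv l (hl ▸ hPQ x hx.1)
    have hlN := hN l hlx
    refine mem_normalizer_iff.mpr fun y => ?_
    obtain ⟨y, rfl⟩ := hπ y
    rw [← map_inv, ← map_mul, ← map_mul]
    refine ⟨fun h => hPQ _ ?_, fun h => hPQ _ ?_⟩
    · exact (mem_normalizer_iff.mp hlN (y : H)).mp (hQP y h)
    · exact (mem_normalizer_iff.mp hlN (y : H)).mpr (hQP _ h)

variable {a : H} (ha : a ∈ zInv (S : Subgroup H)) (ha1 : a ≠ 1) (hav : a ≠ v)
include ha ha1 hav

/-- The shape of `S`. -/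
theorem exists_parts (h1174 : EmbCriterion.{u}) :
    ∃ P R : Subgroup H, Parts (S : Subgroup H) v P R := by
  classical
  obtain ⟨K, hK, y, hyK, hy, hyv⟩ := exists_component_invol hO hv hvc hU S hnn ha ha1 hav
  haveI hperf := CI.component_perfect_inst hK
  haveI hsimpX : IsSimpleGroup (↥K ⧸ center ↥K) := hK.2.2
  have hvS := mem_sylow hv hvc hU S
  have hvA : v ∈ zInv (S : Subgroup H) := ⟨hvS, sq_of_orderOf_two hv, fun s _ => (hvc s).eq⟩
  -- a central involution in the component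
  obtain ⟨t, htK, ht, ht1, htv⟩ : ∃ t ∈ K, t ∈ zInv (S : Subgroup H) ∧ t ≠ 1 ∧ t ≠ v := by
    rcases mem_or_of_invol hO hv hvc hU S hK ha.1 ha.2.1 hav (normalizes_component hO S hK ha) (fun _ => ha)
      hyK hy hyv with h | h
    · exact ⟨a, h, ha, ha1, hav⟩
    · refine ⟨v * a, h, mul_mem hvA ha, fun e => hav ?_, fun e => ha1 (mul_eq_left.mp e)⟩
      rw [eq_inv_of_mul_eq_one_right e, inv_eq_of_mul_eq_one_right (sq_of_orderOf_two hv)]
  obtain ⟨P₀, hP₀⟩ := exists_sylow_component hK S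
  have hP₀mem : ∀ {x : ↥K}, x ∈ (P₀ : Subgroup ↥K) ↔ (x : H) ∈ (S : Subgroup H) := by
    intro x
    rw [hP₀]
    exact mem_subgroupOf
  have hZle : center ↥K ≤ (P₀ : Subgroup ↥K) := CI.center_le_sylow hO hK P₀
  set π := QuotientGroup.mk' (center ↥K) with hπ
  have hπs : Function.Surjective π := QuotientGroup.mk'_surjective _
  have hπker : π.ker = center ↥K := QuotientGroup.ker_mk' _
  have hXna := Components.qs_quotient_not_comm hK.2
  obtain ⟨M, hM⟩ := exists_se_quot hO hv hvc hU S hnn h1174 hK htK ht ht1 htv hXna hπs hπker.le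
  have hfX := sylowFacts hXna hM
  set Q := P₀.mapSurjective hπs with hQ
  have hQmem : ∀ {q}, q ∈ (Q : Subgroup (↥K ⧸ center ↥K)) ↔ ∃ x ∈ (P₀ : Subgroup ↥K), π x = q := by
    intro q
    rw [hQ, Sylow.coe_mapSurjective]
    exact mem_map
  have hnc : ∀ {x : ↥K}, (x : H) ∈ zInv (S : Subgroup H) → (x : H) ≠ 1 → (x : H) ≠ v → x ∉ center ↥K := by
    intro x hx hx1 hxv hc
    have := center_component_le hO hK x.2 fun l hl => congrArg Subtype.val (mem_center_iff.mp hc ⟨l, hl⟩)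
    exact (pCore_invol hv hvc hU S hnn this hx.2.1).elim hx1 hxv
  -- the component is simple
  have hZ : center ↥K = ⊥ := by
    by_cases hQab : IsMulCommutative ↥(Q : Subgroup (↥K ⧸ center ↥K))
    · -- the part in the component is abelian
      have hsq := hfX.abelian_sq Q hQab
      have hcen : ∀ p ∈ (P₀ : Subgroup ↥K), ∀ s ∈ (P₀ : Subgroup ↥K), s * p = p * s := by
        intro p hp s hs
        by_cases hp1 : π p = 1
        · exact mem_center_iff.mp (hπker ▸ MonoidHom.mem_ker.mpr hp1 : p ∈ center ↥K) s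
        have htm : (⟨t, htK⟩ : ↥K) ∈ (P₀ : Subgroup ↥K) := hP₀mem.mpr ht.1
        have hπt : π ⟨t, htK⟩ ≠ 1 := fun e =>
          hnc (x := ⟨t, htK⟩) ht ht1 htv (hπker ▸ MonoidHom.mem_ker.mpr e)
        obtain ⟨n, -, en⟩ := hfX.conj Q _ (hQmem.mpr ⟨_, htm, rfl⟩) _ (hQmem.mpr ⟨_, hp, rfl⟩)
          (orderOf_two (hsq _ (hQmem.mpr ⟨_, htm, rfl⟩)) hπt)
          (orderOf_two (hsq _ (hQmem.mpr ⟨_, hp, rfl⟩)) hp1)
        obtain ⟨k, rfl⟩ := hπs n
        have hz : k * ⟨t, htK⟩ * k⁻¹ * p⁻¹ ∈ center ↥K := by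
          rw [← hπker, MonoidHom.mem_ker, map_mul, map_mul, map_mul, map_inv, map_inv, en, mul_inv_cancel]
        have hkt : k * ⟨t, htK⟩ * k⁻¹ ∈ (P₀ : Subgroup ↥K) := by
          have := mul_mem (hZle hz) hp
          rwa [inv_mul_cancel_right] at this
        have hkN := mem_normalizer_of_conj hv hvc hU S (g := (k : H)) (orderOf_two ht.2.1 ht1) htv ht.1
          (hP₀mem.mp hkt)
        have hc : s * (k * ⟨t, htK⟩ * k⁻¹) = k * ⟨t, htK⟩ * k⁻¹ * s :=
          Subtype.ext ((zInv_invariant S hkN ht).2.2 s (hP₀mem.mp hs))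
        have h2 := mem_center_iff.mp hz s
        have h3 : Commute s (k * ⟨t, htK⟩ * k⁻¹) := hc
        have h4 := (show Commute s (k * ⟨t, htK⟩ * k⁻¹ * p⁻¹) from h2).inv_right.mul_right h3
        rw [mul_inv_rev, inv_inv, inv_mul_cancel_right] at h4
        exact h4.eq
      haveI : IsMulCommutative ↥(P₀ : Subgroup ↥K) := ⟨⟨fun a b => Subtype.ext (hcen b b.2 a a.2)⟩⟩
      by_contra hne
      haveI : Nontrivial ↥(center ↥K) := (nontrivial_iff_ne_bot _).mpr hne
      obtain ⟨n, hn, hcard⟩ := (P₀.isPGroup'.to_le hZle).nontrivial_iff_card.mp inferInstance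
      obtain ⟨z, hz⟩ := exists_prime_orderOf_dvd_card' (G := ↥(center ↥K)) 2 (hcard ▸ dvd_pow_self 2 hn.ne')
      rw [← Subgroup.orderOf_coe] at hz
      have h1 := Components.eq_one_of_perfect_center P₀ z.2 (by rw [← hz, pow_orderOf_eq_one])
      rw [h1, orderOf_one] at hz
      exact absurd hz (by norm_num)
    · have hCI : CentralInter ↥K := by
        intro S₁ S₂ hne x hx1 hx2 s _
        have hd : S₁.mapSurjective hπs ≠ S₂.mapSurjective hπs := by
          intro e
          refine hne (Sylow.ext ?_)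
          have e' := congrArg (fun U : Sylow 2 (↥K ⧸ center ↥K) =>
            (U : Subgroup (↥K ⧸ center ↥K)).comap π) e
          simp only [Sylow.coe_mapSurjective, comap_map_eq, hπker] at e'
          rwa [sup_eq_left.mpr (CI.center_le_sylow hO hK S₁), sup_eq_left.mpr (CI.center_le_sylow hO hK S₂)] at e'
        have h1 : π x = 1 := by
          rw [← mem_bot, ← hfX.ti _ _ hd, Sylow.coe_mapSurjective, Sylow.coe_mapSurjective]
          exact ⟨mem_map_of_mem π hx1, mem_map_of_mem π hx2⟩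
        exact mem_center_iff.mp (hπker ▸ MonoidHom.mem_ker.mpr h1 : x ∈ center ↥K) s
      refine CI.center_eq_bot hCI (CI.benderFacts Q hQab M hM) (P₀.isPGroup'.to_le hZle) P₀ hQab
        (q := ⟨t, htK⟩) (hP₀mem.mpr ht.1) (hnc (x := ⟨t, htK⟩) ht ht1 htv) ?_
        fun s hs => Subtype.ext (ht.2.2 s (hP₀mem.mp hs))
      rw [show (⟨t, htK⟩ : ↥K) * ⟨t, htK⟩ = 1 from Subtype.ext ht.2.1]
      exact one_mem _
  haveI : Nontrivial ↥K := Components.qs_nontrivial hK.2
  haveI hKsimp : IsSimpleGroup ↥K := ⟨fun N _ => by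
    by_cases e : N = ⊤
    · exact Or.inr e
    · exact Or.inl (le_bot_iff.mp ((Components.qs_normal_le_center hK.2 N e).trans hZ.le))⟩
  have hKna : ¬ IsMulCommutative ↥K := fun hc => by
    have : center ↥K = ⊤ := eq_top_iff.mpr fun x _ => mem_center_iff.mpr fun w => hc.is_comm.comm w x
    exact (bot_ne_top (α := Subgroup ↥K)) (hZ.symm.trans this)
  obtain ⟨M', hM'⟩ := exists_se_quot hO hv hvc hU S hnn h1174 hK htK ht ht1 htv hKna
    (π := MonoidHom.id ↥K) Function.surjective_id (by simp)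
  have hf := sylowFacts hKna hM'
  -- the component is normal
  haveI hKn : K.Normal := by
    refine normalizer_eq_top_iff.mp (eq_top_iff.mpr fun g _ => ?_)
    refine Components.mem_normalizer_of_map_conj_eq ?_
    by_contra hne
    exact htv (eq_of_centralizes hO hv hvc hU (Components.component_conj hK g) (orderOf_two ht.2.1 ht1)
      (mem_centralizer_iff.mpr fun l hl => Components.commute_of_commutator_eq_bot
        (Components.components_commute (Components.component_conj hK g) hK hne) hl htK))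
  have hKc : ∀ x ∈ K, (∀ k ∈ K, Commute k x) → x = 1 := by
    intro x hx hc
    have : (⟨x, hx⟩ : ↥K) ∈ center ↥K := mem_center_iff.mpr fun w => Subtype.ext (hc w w.2).eq
    rw [hZ, mem_bot] at this
    exact congrArg Subtype.val this
  have hvK : v ∉ K := fun h => ne_one_of_orderOf_two hv (hKc v h fun k _ => hvc k)
  set R := Cfsg.pCore 2 H with hR
  have hRp : IsPGroup 2 ↥R := Components.isPGroup_pCore 2
  have hRK : ∀ r ∈ R, ∀ k ∈ K, Commute k r := fun r hr k hk =>
    Components.commute_of_commutator_eq_bot (Components.component_commutator_fitting hK) hk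
      (Components.pCore_le_fitting 2 hr)
  -- the centraliser of the component
  set C := centralizer (K : Set H) with hC
  have hCN : C ≤ normalizer ((S : Subgroup H) : Set H) := fun c hc =>
    centralizer_le_normalizer_of_inv hv hvc hU S (orderOf_two ht.2.1 ht1) htv ht.1
      (mem_centralizer_singleton_iff.mpr (mem_centralizer_iff.mp hc t htK).symm)
  have htwoC : ∀ c ∈ C, ∀ e : ℕ, c ^ 2 ^ e = 1 → c ∈ R := by
    intro c hc e he
    haveI : ((S : Subgroup H) ⊓ C).Normal := ⟨fun x hx g => by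
      have hgx : g * x * g⁻¹ ∈ C := (inferInstance : C.Normal).conj_mem x hx.2 g
      obtain ⟨j, hj⟩ := CI.exists_orderOf_pow hx.1
      exact ⟨mem_of_mem_normalizer S (CI.isPGroup_zpowers (k := j) (by rw [conj_pow, hj]; simp))
        (zpowers_le.mpr (hCN hgx)) (mem_zpowers _), hgx⟩⟩
    refine Cores.le_pCore (S.isPGroup'.to_le (inf_le_left : (S : Subgroup H) ⊓ C ≤ _)) ⟨?_, hc⟩
    exact mem_of_mem_normalizer S (CI.isPGroup_zpowers he) (zpowers_le.mpr (hCN hc)) (mem_zpowers c)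
  have hsplit : ∀ x ∈ (S : Subgroup H), ∀ k ∈ K, k⁻¹ * x ∈ C → x ∈ ((S : Subgroup H) ⊓ K) ⊔ R := by
    intro x hx k hk hc
    obtain ⟨e, he⟩ := CI.exists_orderOf_pow hx
    have hcomm : Commute k (k⁻¹ * x) := (mem_centralizer_iff.mp hc k hk)
    have hpow : k ^ 2 ^ e * (k⁻¹ * x) ^ 2 ^ e = 1 := by
      rw [← hcomm.mul_pow, mul_inv_cancel_left, he]
    have hk1 : k ^ 2 ^ e = 1 := hKc _ (pow_mem hk _) fun l hl => by
      rw [eq_inv_of_mul_eq_one_left hpow]
      exact (show Commute l (k⁻¹ * x) from mem_centralizer_iff.mp hc l hl).pow_right _ |>.inv_right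
    have hcR := htwoC _ hc e (by rwa [hk1, one_mul] at hpow)
    have hkS : k ∈ (S : Subgroup H) := by
      have := mul_mem hx (inv_mem (pCore_le_sylow S hcR))
      rwa [mul_inv_rev, inv_inv, mul_inv_cancel_left] at this
    rw [show x = k * (k⁻¹ * x) by group]
    exact mul_mem_sup ⟨hkS, hk⟩ hcR
  refine ⟨(S : Subgroup H) ⊓ K, R, inf_le_left, pCore_le_sylow S, ?_, ?_, ?_, fun h => hvK h.2,
    fun x hx h2 => pCore_invol hv hvc hU S hnn hx h2, ?_, ?_, ?_, ?_, ?_, ?_⟩
  · exact (le_inf le_normalizer (Components.le_normalizer_of_normal (A := K) _ )).trans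
      inf_normalizer_le_normalizer_inf
  · exact Components.le_normalizer_of_normal (A := R) _
  · haveI : (zpowers v).Normal := ⟨fun x hx g => by
      obtain ⟨i, rfl⟩ := mem_zpowers_iff.mp hx
      rw [((hvc g).zpow_right i).eq, mul_inv_cancel_right]
      exact zpow_mem (mem_zpowers v) i⟩
    exact Cores.le_pCore (CI.isPGroup_zpowers (x := v) (k := 1)
      (by rw [pow_one, pow_two, sq_of_orderOf_two hv])) (mem_zpowers v)
  · exact le_bot_iff.mp fun x hx => mem_bot.mpr (hKc x hx.1.2 fun k hk => hRK x hx.2 k hk)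
  · intro x hx hx2
    rcases eq_or_ne x v with rfl | hxv
    · refine Or.inr ?_
      rw [hx2]
      exact one_mem _
    rcases mem_or_of_invol hO hv hvc hU S hK hx hx2 hxv (Components.le_normalizer_of_normal (A := K) ⊤ (mem_top x))
      (fun h => absurd h hvK) hyK hy hyv with h | h
    · exact Or.inl ⟨hx, h⟩
    · exact Or.inr ⟨mul_mem hvS hx, h⟩
  · -- cyclic quotient
    set φ : ↥(S : Subgroup H) →* Cfsg.Out ↥K := (QuotientGroup.mk' (Cfsg.Inn ↥K)).comp
      ((MulAut.conjNormal (H := K)).comp (S : Subgroup H).subtype) with hφ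
    haveI := hf.out φ.range (S.isPGroup'.of_surjective φ.rangeRestrict φ.rangeRestrict_surjective)
    obtain ⟨⟨_, g, rfl⟩, hg⟩ := IsCyclic.exists_generator (α := ↥φ.range)
    refine ⟨g, g.2, fun s hs => ?_⟩
    obtain ⟨i, hi⟩ := mem_zpowers_iff.mp (hg ⟨φ ⟨s, hs⟩, ⟨⟨s, hs⟩, rfl⟩⟩)
    refine ⟨i, ?_⟩
    have hi' : φ g ^ i = φ ⟨s, hs⟩ := congrArg Subtype.val hi
    have hk1 : φ (⟨s, hs⟩ * (g ^ i)⁻¹) = 1 := by rw [map_mul, map_inv, map_zpow, hi', mul_inv_cancel]
    have hk2 : MulAut.conjNormal (H := K) ((⟨s, hs⟩ * (g ^ i)⁻¹ : ↥(S : Subgroup H)) : H) ∈ Cfsg.Inn ↥K :=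
      (QuotientGroup.eq_one_iff _).mp hk1
    obtain ⟨k, hk⟩ := hk2
    refine hsplit _ (mul_mem hs (inv_mem (zpow_mem g.2 i))) k k.2 (mem_centralizer_iff.mpr fun l hl => ?_)
    set x := s * ((g : H) ^ i)⁻¹ with hx
    have := congrArg Subtype.val (DFunLike.congr_fun hk (⟨l, hl⟩ : ↥K))
    rw [MulAut.conjNormal_apply] at this
    have h' : (k : H) * l * (k : H)⁻¹ = x * l * x⁻¹ := this
    calc l * ((k : H)⁻¹ * x) = (k : H)⁻¹ * (k * l * (k : H)⁻¹) * x := by group
      _ = (k : H)⁻¹ * (x * l * x⁻¹) * x := by rw [h']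
      _ = (k : H)⁻¹ * x * l := by group
  · -- no square roots of other central involutions
    intro s hsS hsP _ hss
    by_contra hall
    push Not at hall
    set b := v * (s * s) with hb
    have hs1 : s * s ≠ 1 := fun e => hall.1 (e ▸ one_mem _)
    have hbK : b ∈ K := by
      rcases mem_or_of_invol hO hv hvc hU S hK hss.1 hss.2.1 hall.2
        (Components.le_normalizer_of_normal (A := K) ⊤ (mem_top _)) (fun h => absurd h hvK) hyK hy hyv with h | h
      · exact absurd ⟨hss.1, h⟩ hall.1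
      · exact h
    have hb2 : b * b = 1 := (mul_mem hvA hss).2.1
    have hb1 : b ≠ 1 := fun e => hall.2 (by
      rw [← inv_eq_of_mul_eq_one_right e, inv_eq_of_mul_eq_one_right (sq_of_orderOf_two hv)])
    have hbo : orderOf (⟨b, hbK⟩ : ↥K) = 2 := (Subgroup.orderOf_mk b hbK).trans (orderOf_two hb2 hb1)
    have hbP : (⟨b, hbK⟩ : ↥K) ∈ (P₀ : Subgroup ↥K) := hP₀mem.mpr (mul_mem hvS hss.1)
    obtain ⟨b', hb', hb'o, hb'b⟩ := hf.two P₀ _ hbP hbo
    obtain ⟨d, hd, ed⟩ := hf.conj P₀ _ hbP b' hb' hbo hb'o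
    set c : ↥K := ⟨(d : H) * s * (d : H)⁻¹ * s⁻¹, by
      rw [show (d : H) * s * (d : H)⁻¹ * s⁻¹ = d * (s * (d : H)⁻¹ * s⁻¹) by group]
      exact K.mul_mem d.2 (hKn.conj_mem _ (K.inv_mem d.2) s)⟩ with hc
    have hcP : ∀ p ∈ (P₀ : Subgroup ↥K), Commute p c := by
      intro p hp
      have h1 : Commute (p : H) s := hsP p ⟨hP₀mem.mp hp, p.2⟩
      have h2 : d⁻¹ * p * d ∈ (P₀ : Subgroup ↥K) := (mem_normalizer_iff''.mp hd p).mp hp
      have h3 : Commute ((d : H)⁻¹ * p * d) s := hsP _ ⟨hP₀mem.mp h2, (d⁻¹ * p * d).2⟩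
      have h4 : Commute (p : H) ((d : H) * s * (d : H)⁻¹) := by
        show (p : H) * (d * s * (d : H)⁻¹) = d * s * (d : H)⁻¹ * p
        calc (p : H) * (d * s * (d : H)⁻¹) = d * ((d : H)⁻¹ * p * d * s) * (d : H)⁻¹ := by group
          _ = d * (s * ((d : H)⁻¹ * p * d)) * (d : H)⁻¹ := by rw [h3.eq]
          _ = d * s * (d : H)⁻¹ * p := by group
      exact Subtype.ext (h4.mul_right h1.inv_right).eq
    have hnnK : ∃ U : Sylow 2 ↥K, U ≠ P₀ := CI.exists_ne_sylow hKna P₀ fun e => by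
      rw [e, mem_bot] at hbP
      exact hb1 (congrArg Subtype.val hbP)
    have hcm := hf.centralizer_le P₀ hnnK hcP
    have hc2 : (c : H) * c = 1 := congrArg Subtype.val (hf.sq P₀ c hcm fun p hp => (hcP p hp).eq)
    have hcs : Commute (c : H) s := hsP c ⟨hP₀mem.mp hcm, c.2⟩
    have hfix : (d : H) * (s * s) * (d : H)⁻¹ = s * s := by
      have e : (d : H) * s * (d : H)⁻¹ = (c : H) * s := by
        show _ = (d : H) * s * (d : H)⁻¹ * s⁻¹ * s
        group
      calc (d : H) * (s * s) * (d : H)⁻¹ = (d * s * (d : H)⁻¹) * (d * s * (d : H)⁻¹) := by group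
        _ = (c : H) * s * ((c : H) * s) := by rw [e]
        _ = ((c : H) * c) * (s * s) := by
          rw [mul_assoc, ← mul_assoc s (c : H) s, ← hcs.eq]; group
        _ = s * s := by rw [hc2, one_mul]
    refine hb'b (Subtype.ext ?_)
    rw [← ed]
    show (d : H) * b * (d : H)⁻¹ = b
    calc (d : H) * b * (d : H)⁻¹ = (d : H) * v * (d : H)⁻¹ * ((d : H) * (s * s) * (d : H)⁻¹) := by
          rw [hb]; group
      _ = b := by rw [hfix, (hvc (d : H)).eq, mul_inv_cancel_right]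
  · intro hab p hp
    have hab' : IsMulCommutative ↥(P₀ : Subgroup ↥K) := ⟨⟨fun q r => Subtype.ext (Subtype.ext
      (hab _ ⟨hP₀mem.mp q.2, q.1.2⟩ _ ⟨hP₀mem.mp r.2, r.1.2⟩).eq)⟩⟩
    exact congrArg Subtype.val (hf.abelian_sq P₀ hab' ⟨p, hp.2⟩ (hP₀mem.mpr hp.1))
  · rintro ⟨p₁, hp₁, q₁, hq₁, hne⟩ p hp hp2
    rcases eq_or_ne p 1 with rfl | hp1
    · exact one_mem _
    set D := ⁅(P₀ : Subgroup ↥K), (P₀ : Subgroup ↥K)⁆ with hD
    have hDle : D ≤ (P₀ : Subgroup ↥K) := commutator_le_self _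
    have hDne : D ≠ ⊥ := fun e => hne (congrArg Subtype.val
      (mem_centralizer_iff.mp (commutator_eq_bot_iff_le_centralizer.mp e
        (hP₀mem.mpr hp₁.1 : (⟨p₁, hp₁.2⟩ : ↥K) ∈ (P₀ : Subgroup ↥K))) ⟨q₁, hq₁.2⟩ (hP₀mem.mpr hq₁.1))).symm
    haveI : Nontrivial ↥D := (nontrivial_iff_ne_bot D).mpr hDne
    obtain ⟨n, hn, hcard⟩ := (P₀.isPGroup'.to_le hDle).nontrivial_iff_card.mp inferInstance
    obtain ⟨w, hw⟩ := exists_prime_orderOf_dvd_card' (G := ↥D) 2 (hcard ▸ dvd_pow_self 2 hn.ne')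
    rw [← Subgroup.orderOf_coe] at hw
    obtain ⟨m, hm, em⟩ := hf.conj P₀ (w : ↥K) (hDle w.2) ⟨p, hp.2⟩ (hP₀mem.mpr hp.1) hw
      ((Subgroup.orderOf_mk p hp.2).trans (orderOf_two hp2 hp1))
    have hmD : (⟨p, hp.2⟩ : ↥K) ∈ D := by
      rw [← em]
      have hN : m ∈ normalizer (D : Set ↥K) := by
        rw [mem_normalizer_iff_map_conj_eq, hD, map_commutator]
        exact congrArg₂ (fun A B : Subgroup ↥K => ⁅A, B⁆) (mem_normalizer_iff_map_conj_eq.mp hm)
          (mem_normalizer_iff_map_conj_eq.mp hm)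
      exact (mem_normalizer_iff.mp hN _).mp w.2
    have hmap : D.map K.subtype ≤ ⁅(S : Subgroup H) ⊓ K, (S : Subgroup H) ⊓ K⁆ := by
      rw [hD, map_commutator, hP₀, subgroupOf_map_subtype]
    exact hmap ⟨_, hmD, rfl⟩

end Cfsg.Agent.H91.RO
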