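import Cfsg.Agent.H91.RO.Abelian
import Cfsg.Agent.H91.RO.Global
import Cfsg.Agent.Bridge.Bender
import Cfsg.Agent.S0252

/-!
# The classification of simple groups with central intersections of rank one

From the classification of simple groups with abelian Sylow 2-subgroups, the criterion for strongly closed
subgroups and the characterisation of `PSU₃(4)` by its Sylow 2-subgroup.
-/

set_option autoImplicit false
set_option linter.style.haveILetI false

namespace Cfsg.Agent.H91.RO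

open Subgroup Cfsg.Agent
open Cfsg.Agent.H10.Walter (WalterHyp AbSyl Shape)
open Cfsg.Agent.H91.CI (EmbCriterion)

universe u

local instance fact_two_roMain : Fact (Nat.Prime 2) := ⟨Nat.prime_two⟩

/-- A finite simple group with the Sylow 2-subgroup of `PSU₃(4)` is `PSU₃(4)`. -/
def UnitaryFourHyp : Prop :=
  ∀ (X : Type u) [Group X] [Finite X] [IsSimpleGroup X] (F : Type) [Field F] [Fintype F],
    Fintype.card F = 16 → ∀ (S : Sylow 2 X) (P : Sylow 2 (Cfsg.PSU 3 F 4)),
      Nonempty ((S : Subgroup X) ≃* (P : Subgroup (Cfsg.PSU 3 F 4))) → Nonempty (X ≃* Cfsg.PSU 3 F 4)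

/-- The conclusion, with the three inputs as hypotheses. -/
theorem simple_rank_one_intersections (hWal : WalterHyp.{u}) (h1174 : EmbCriterion.{u})
    (h486 : UnitaryFourHyp.{u}) {G : Type u} [Group G] [Finite G] [IsSimpleGroup G]
    (hG : ¬ IsMulCommutative G)
    (h : ∀ S T : Sylow 2 G, S ≠ T →
      ((S : Subgroup G) ⊓ (T : Subgroup G) = ⊥ ∨
        ∃ z ∈ (S : Subgroup G) ⊓ (T : Subgroup G), orderOf z = 2 ∧
          ∃ U : Sylow 2 G, z ∈ (Subgroup.center ↥(U : Subgroup G)).map (U : Subgroup G).subtype) →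
      Cfsg.PRankLE 2 1 ↥((S : Subgroup G) ⊓ (T : Subgroup G))) :
    (∃ (n : ℕ) (F : Type) (_ : Field F) (_ : Fintype F), 2 ≤ n ∧ Fintype.card F = 2 ^ n ∧
        Nonempty (G ≃* Matrix.ProjectiveSpecialLinearGroup (Fin 2) F)) ∨
    (∃ (m : ℕ) (F : Type) (_ : Field F) (_ : Fintype F), 1 ≤ m ∧ Fintype.card F = 2 ^ (2 * m + 1) ∧
        Nonempty (G ≃* ↥(Cfsg.Lie.Sz F (2 ^ (m + 1))))) ∨
    (∃ (n : ℕ) (F : Type) (_ : Field F) (_ : Fintype F), 2 ≤ n ∧ Fintype.card F = 4 ^ n ∧
        Nonempty (G ≃* Cfsg.PSU 3 F (2 ^ n))) ∨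
    (∃ (F : Type) (_ : Field F) (_ : Fintype F), (Fintype.card F % 8 = 3 ∨ Fintype.card F % 8 = 5) ∧
        5 < Fintype.card F ∧ Nonempty (G ≃* Matrix.ProjectiveSpecialLinearGroup (Fin 2) F)) ∨
    Cfsg.IsJ1 G := by
  classical
  have hU := uniq_of_hyp h
  obtain ⟨S⟩ : Nonempty (Sylow 2 G) := inferInstance
  by_cases hS : IsMulCommutative ↥(S : Subgroup G)
  · have hab : AbSyl G := H10.Walter.absyl_of_sylow S hS
    rcases hWal G inferInstance hG hab with ⟨F, _, _, n, hn, hF, he⟩ | ⟨F, _, _, h5, h8, ⟨e⟩⟩ | hR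
    · exact Or.inl ⟨n, F, inferInstance, inferInstance, hn, hF, he⟩
    · rcases h5.lt_or_eq with h5 | h5
      · exact Or.inr (Or.inr (Or.inr (Or.inl ⟨F, inferInstance, inferInstance, h8, h5, ⟨e⟩⟩)))
      · obtain ⟨e5⟩ := S0253.result h5.symm
        letI : Fintype (GaloisField 2 2) := Fintype.ofFinite _
        have h4 : Fintype.card (GaloisField 2 2) = 2 ^ 2 := by
          rw [← Nat.card_eq_fintype_card, GaloisField.card 2 2 two_ne_zero]
        obtain ⟨e4⟩ := S0252.result (F := GaloisField 2 2) (h4.trans (by norm_num))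
        exact Or.inl ⟨2, GaloisField 2 2, inferInstance, inferInstance, le_rfl, h4, ⟨(e.trans e5).trans e4.symm⟩⟩
    · exact Or.inr (Or.inr (Or.inr (Or.inr (j1_of_typeR hU hab hR))))
  · rcases se_or_unitary hU hG S hS h1174 (fun F _ _ hF P hP => h486 G F hF S P hP) with
      ⟨M, hM⟩ | ⟨F, _, _, hF, he⟩
    swap
    · exact Or.inr (Or.inr (Or.inl ⟨2, F, inferInstance, inferInstance, le_rfl, hF.trans (by norm_num), he⟩))
    have hna : ∃ a b : G, a * b ≠ b * a := by
      by_contra hc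
      push Not at hc
      exact hG ⟨⟨hc⟩⟩
    rcases Bridge.bender G hna M hM with ⟨F, _, _, hch, h4, he⟩ | ⟨F, _, _, m, hm, hF, he⟩ |
      ⟨F, _, _, q, hF, hev, h4, ⟨e⟩⟩
    · haveI := hch
      obtain ⟨k, -, hk⟩ := FiniteField.card F 2
      refine Or.inl ⟨k, F, inferInstance, inferInstance, ?_, hk, he⟩
      by_contra hlt
      have := Nat.pow_le_pow_right (show 1 ≤ 2 by norm_num) (show (k : ℕ) ≤ 1 by omega)
      omega
    · exact Or.inr (Or.inl ⟨m, F, inferInstance, inferInstance, hm, hF, he⟩)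
    · obtain ⟨p, _, k, hp, hk⟩ := FiniteField.card' F
      have hq : q ∣ p ^ (k : ℕ) := ⟨q, by rw [← hk, hF, pow_two]⟩
      obtain ⟨n, -, rfl⟩ := (Nat.dvd_prime_pow hp).mp hq
      obtain rfl : p = 2 := ((Nat.prime_dvd_prime_iff_eq Nat.prime_two hp).mp
        (Nat.prime_two.dvd_of_dvd_pow (even_iff_two_dvd.mp hev))).symm
      refine Or.inr (Or.inr (Or.inl ⟨n, F, inferInstance, inferInstance, ?_, ?_, ⟨e⟩⟩))
      · by_contra hlt
        have := Nat.pow_le_pow_right (show 1 ≤ 2 by norm_num) (show n ≤ 1 by omega)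
        omega
      · rw [hF, ← pow_mul, show (4 : ℕ) = 2 ^ 2 from rfl, ← pow_mul, mul_comm]

end Cfsg.Agent.H91.RO
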