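import Cfsg.Agent.H91.RO.Basic
import Cfsg.Agent.H91.CI.Bender
import Cfsg.Agent.H91.CI.Comp
import Cfsg.Agent.H10.AbTwo.Sylow
import Cfsg.Agent.H35.JT.PSL
import Cfsg.Agent.S1132
import Cfsg.Agent.S1137
import Cfsg.Agent.S2126
import Cfsg.Agent.S2602
import Cfsg.Agent.S2603
import Cfsg.Prelude.Def_KGroupFacts

/-!
# Simple groups with a strongly embedded subgroup: facts about the Sylow 2-subgroups

TI, transitive on each other, involutions fused in the normaliser, central elements of order at most two,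
and cyclic outer 2-subgroups.
-/

set_option autoImplicit false
set_option linter.style.haveILetI false
set_option linter.unusedSectionVars false

namespace Cfsg.Agent.H91.RO

open Subgroup
open Cfsg.Agent.H39
open Cfsg.Agent.H76.PostBender
open Cfsg.Agent.H91.CI (conj_mem_sylow_iff mem_of_mem_normalizer)
open scoped Pointwise

universe u

local instance fact_two_roSimple : Fact (Nat.Prime 2) := ⟨Nat.prime_two⟩

/-- The facts used about the Sylow 2-subgroups of a simple group with a strongly embedded subgroup. -/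
structure SylowFacts (X : Type u) [Group X] : Prop where
  ti : ∀ S T : Sylow 2 X, S ≠ T → (S : Subgroup X) ⊓ (T : Subgroup X) = ⊥
  trans : SylTrans 2 X
  conj : ∀ S : Sylow 2 X, ∀ a ∈ (S : Subgroup X), ∀ b ∈ (S : Subgroup X), orderOf a = 2 → orderOf b = 2 →
    ∃ n ∈ normalizer ((S : Subgroup X) : Set X), n * a * n⁻¹ = b
  two : ∀ S : Sylow 2 X, ∀ a ∈ (S : Subgroup X), orderOf a = 2 →
    ∃ b ∈ (S : Subgroup X), orderOf b = 2 ∧ b ≠ a
  sq : ∀ S : Sylow 2 X, ∀ x ∈ (S : Subgroup X), (∀ s ∈ (S : Subgroup X), s * x = x * s) → x * x = 1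
  abelian_sq : ∀ S : Sylow 2 X, IsMulCommutative ↥(S : Subgroup X) → ∀ x ∈ (S : Subgroup X), x * x = 1
  out : ∀ U : Subgroup (Cfsg.Out X), IsPGroup 2 ↥U → IsCyclic ↥U

section Out

/-- Transport of automorphisms along an isomorphism. -/
def autTransport {A B : Type*} [Group A] [Group B] (e : A ≃* B) : MulAut A ≃* MulAut B where
  toFun a := (e.symm.trans a).trans e
  invFun b := (e.trans b).trans e.symm
  left_inv a := MulEquiv.ext fun x => by simp
  right_inv b := MulEquiv.ext fun x => by simp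
  map_mul' a b := MulEquiv.ext fun x => by simp

theorem out_transport {A B : Type u} [Group A] [Group B] (e : A ≃* B) :
    Nonempty (Cfsg.Out A ≃* Cfsg.Out B) := by
  refine ⟨QuotientGroup.congr _ _ (autTransport e) ?_⟩
  ext x
  constructor
  · rintro ⟨_, ⟨g, rfl⟩, rfl⟩
    exact ⟨e g, MulEquiv.ext fun z => by simp [autTransport]⟩
  · rintro ⟨b, rfl⟩
    exact ⟨_, ⟨e.symm b, rfl⟩, MulEquiv.ext fun z => by simp [autTransport]⟩

/-- A 2-subgroup is cyclic when a map to a cyclic group has odd kernel. -/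
theorem isCyclic_two_of_hom {O C : Type*} [Group O] [Group C] [IsCyclic C] (φ : O →* C)
    (hker : Odd (Nat.card φ.ker)) (U : Subgroup O) (hU : IsPGroup 2 ↥U) : IsCyclic ↥U := by
  refine isCyclic_of_injective (φ.domRestrict U) ((injective_iff_map_eq_one _).mpr fun x hx => ?_)
  obtain ⟨k, hk⟩ := hU x
  have h1 : orderOf (x : O) ∣ Nat.card φ.ker := φ.ker.orderOf_dvd_natCard (MonoidHom.mem_ker.mpr hx)
  have h2 : orderOf (x : O) ∣ 2 ^ k := orderOf_dvd_of_pow_eq_one (congrArg Subtype.val hk)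
  exact Subtype.ext (orderOf_eq_one_iff.mp
    (Nat.eq_one_of_dvd_coprimes ((Nat.coprime_two_right.mpr hker).pow_right k) h1 h2))

theorem out_two_cyclic_of_list {X : Type u} [Group X] (h : IsBenderGroup X) (U : Subgroup (Cfsg.Out X))
    (hU : IsPGroup 2 ↥U) : IsCyclic ↥U := by
  suffices key : ∀ {Y : Type} [Group Y] (e : X ≃* Y),
      (∀ V : Subgroup (Cfsg.Out Y), IsPGroup 2 ↥V → IsCyclic ↥V) → IsCyclic ↥U by
    rcases h with ⟨F, _, _, hc, h4, ⟨e⟩⟩ | ⟨F, _, _, m, hm, hF, ⟨e⟩⟩ | ⟨F, _, _, q, hF, hq, h4, ⟨e⟩⟩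
    · refine key e fun V hV => ?_
      obtain ⟨n, -, hn⟩ := FiniteField.card F 2
      obtain ⟨φ, -, -, hker⟩ := S2602.result (F := F) n.pos hn (hn ▸ h4)
      refine isCyclic_two_of_hom φ ?_ V hV
      rw [hker]
      have h1 : Odd (2 ^ (n : ℕ) - 1) :=
        Nat.Even.sub_odd Nat.one_le_two_pow ((Nat.even_pow).mpr ⟨even_two, n.pos.ne'⟩) odd_one
      exact h1.of_dvd_nat (Nat.gcd_dvd_right _ _)
    · refine key e fun V hV => ?_
      have hodd : Odd (Nat.card ↥(⊤ : Subgroup (Cfsg.Out ↥(Cfsg.Lie.Sz F (2 ^ (m + 1)))))) := by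
        rw [Subgroup.card_top, S2126.result hm hF]
        exact odd_two_mul_add_one m
      refine isCyclic_two_of_hom (C := Multiplicative (ZMod 1)) 1 ?_ V hV
      rwa [MonoidHom.ker_one]
    · refine key e fun V hV => ?_
      obtain ⟨p, n, hp, hn⟩ : ∃ (p : ℕ) (n : ℕ), p = 2 ∧ q = p ^ n := by
        obtain ⟨p, _, k, hp, hk⟩ := FiniteField.card' F
        have hd : q ∣ p ^ (k : ℕ) := ⟨q, by rw [← hk, hF, pow_two]⟩
        obtain ⟨n, -, rfl⟩ := (Nat.dvd_prime_pow hp).mp hd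
        exact ⟨p, n, ((Nat.prime_dvd_prime_iff_eq Nat.prime_two hp).mp
          (Nat.prime_two.dvd_of_dvd_pow hq.two_dvd)).symm, rfl⟩
      subst hp
      have hn1 : 1 ≤ n := Nat.one_le_iff_ne_zero.mpr fun e0 => by
        rw [e0, pow_zero] at hn
        omega
      obtain ⟨φ, -, -, hker⟩ := S2603.result (K := F) hn1 hn hF le_rfl (fun h32 => by omega)
      refine isCyclic_two_of_hom φ ?_ V hV
      rw [hker]
      have h1 : Odd (q + 1) := hq.add_one
      exact h1.of_dvd_nat (Nat.gcd_dvd_right _ _)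
  intro Y _ e hY
  obtain ⟨ε⟩ : Nonempty (Cfsg.Out X ≃* Cfsg.Out Y) := by
    refine ⟨QuotientGroup.congr _ _ (autTransport e) ?_⟩
    ext x
    constructor
    · rintro ⟨_, ⟨g, rfl⟩, rfl⟩
      exact ⟨e g, MulEquiv.ext fun z => by simp [autTransport]⟩
    · rintro ⟨b, rfl⟩
      exact ⟨_, ⟨e.symm b, rfl⟩, MulEquiv.ext fun z => by simp [autTransport]⟩
  haveI := hY (U.map ε.toMonoidHom) (hU.map ε.toMonoidHom)
  exact isCyclic_of_injective (U.equivMapOfInjective ε.toMonoidHom ε.injective).toMonoidHom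
    (U.equivMapOfInjective ε.toMonoidHom ε.injective).injective

end Out

variable {X : Type u} [Group X] [Finite X] [IsSimpleGroup X]

/-- The facts, from Bender's theorem. -/
theorem sylowFacts (hna : ¬ IsMulCommutative X) {H : Subgroup X} (hH : Cfsg.IsStronglyEmbedded H) :
    SylowFacts X := by
  have hna' : ∃ a b : X, a * b ≠ b * a := by
    by_contra hc
    push Not at hc
    exact hna ⟨⟨hc⟩⟩
  have hB : IsBenderGroup X := Bridge.bender X hna' H hH
  obtain ⟨P, rfl⟩ := eq_normalizer hB hH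
  have hmem : ∀ {u : X}, orderOf u = 2 → ∀ {g : X}, u ∈ ((g • P : Sylow 2 X) : Subgroup X) →
      g⁻¹ * u * g ∈ normalizer ((P : Subgroup X) : Set X) := by
    rintro u - g ⟨y, hy, rfl⟩
    show g⁻¹ * (g * y * g⁻¹) * g ∈ normalizer ((P : Subgroup X) : Set X)
    rw [show g⁻¹ * (g * y * g⁻¹) * g = y by group]
    exact le_normalizer hy
  have huniq : ∀ u : X, orderOf u = 2 → ∀ S T : Sylow 2 X, u ∈ (S : Subgroup X) → u ∈ (T : Subgroup X) →
      S = T := by
    intro u hu S T huS huT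
    obtain ⟨g, rfl⟩ := MulAction.exists_smul_eq X P S
    obtain ⟨k, rfl⟩ := MulAction.exists_smul_eq X P T
    have ha : orderOf (g⁻¹ * u * g) = 2 := by
      have := orderOf_conj_eq g⁻¹ u
      rw [inv_inv] at this
      rw [this, hu]
    have hk : k⁻¹ * g ∈ normalizer ((P : Subgroup X) : Set X) := by
      refine se_mem_of_conj hH ha (hmem hu huS) ?_
      rw [show k⁻¹ * g * (g⁻¹ * u * g) * (k⁻¹ * g)⁻¹ = k⁻¹ * u * k by group]
      exact hmem hu huT
    have := Sylow.smul_eq_iff_mem_normalizer.mpr hk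
    rw [mul_smul, inv_smul_eq_iff] at this
    exact this
  have hconj : ∀ S : Sylow 2 X, ∀ a ∈ (S : Subgroup X), ∀ b ∈ (S : Subgroup X), orderOf a = 2 →
      orderOf b = 2 → ∃ n ∈ normalizer ((S : Subgroup X) : Set X), n * a * n⁻¹ = b := by
    intro S a ha b hb ha2 hb2
    obtain ⟨g, hg⟩ := isConj_iff.mp (se_involutions_conj hH ha2 hb2)
    refine ⟨g, Sylow.smul_eq_iff_mem_normalizer.mp (huniq b hb2 _ _ ?_ hb), hg⟩
    exact hg ▸ (conj_mem_sylow_iff.mpr ha)
  have htwo : ∀ S : Sylow 2 X, ∀ a ∈ (S : Subgroup X), orderOf a = 2 →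
      ∃ b ∈ (S : Subgroup X), orderOf b = 2 ∧ b ≠ a := by
    intro S a ha ha2
    by_contra hall
    push Not at hall
    exact false_of_isolated hna ha ha2 fun g hg => hall _ hg ((orderOf_conj_eq g a).trans ha2)
  have hinvol : ∀ S : Sylow 2 X, ∃ a ∈ (S : Subgroup X), orderOf a = 2 := by
    intro S
    obtain ⟨y, hy⟩ := exists_prime_orderOf_dvd_card' (G := X) 2
      (hH.2.1.two_dvd.trans (card_subgroup_dvd_card _))
    obtain ⟨U, hU⟩ := (IsPGroup.of_card (n := 1) (show Nat.card ↥(zpowers y) = 2 ^ 1 by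
      rw [Nat.card_zpowers, hy, pow_one])).exists_le_sylow
    obtain ⟨g, rfl⟩ := MulAction.exists_smul_eq X S U
    obtain ⟨x, hx, e⟩ := hU (mem_zpowers y)
    refine ⟨x, hx, ?_⟩
    rw [← hy, ← e]
    exact ((MulAut.conj g).orderOf_eq x).symm
  have hti : ∀ S T : Sylow 2 X, S ≠ T → (S : Subgroup X) ⊓ (T : Subgroup X) = ⊥ := by
    intro S T hne
    by_contra hb
    haveI : Nontrivial ↥((S : Subgroup X) ⊓ (T : Subgroup X)) := (nontrivial_iff_ne_bot _).mpr hb
    obtain ⟨n, hn, hcard⟩ := (S.isPGroup'.to_le (inf_le_left : (S : Subgroup X) ⊓ (T : Subgroup X) ≤ _)).nontrivial_iff_card.mp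
      inferInstance
    obtain ⟨x, hx⟩ := exists_prime_orderOf_dvd_card' 2 (hcard ▸ dvd_pow_self 2 hn.ne')
    exact hne (huniq x (by rwa [Subgroup.orderOf_coe]) S T x.2.1 x.2.2)
  have htrans := sylTrans_of_bender hB
  have hab : ∀ S : Sylow 2 X, IsMulCommutative ↥(S : Subgroup X) → ∀ x ∈ (S : Subgroup X), x * x = 1 := by
    intro S hS x hx
    rcases hB with ⟨F, _, _, hc, h4, ⟨e⟩⟩ | h | ⟨F, _, _, q, hF, hq, -, ⟨e⟩⟩
    · haveI := hc
      apply e.injective
      rw [map_mul, map_one]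
      exact (H35.JT.psl_sylow_char_two h4 (S.mapSurjective (f := e.toMonoidHom) e.surjective)).1 _
        ⟨x, hx, rfl⟩
    · exact absurd hS (H10.AbTwo.sz_sylow_nonabelian h S)
    · haveI := H76.PostBender.charP_two_of_card hF hq
      exact absurd hS (H10.AbTwo.psu_sylow_nonabelian hF e S)
  refine ⟨hti, htrans, hconj, htwo, fun S x hx hxc => ?_, hab, out_two_cyclic_of_list hB⟩
  -- the action on the Sylow 2-subgroups
  haveI : FaithfulSMul X (Sylow 2 X) := by
    have hk : (MulAction.toPermHom X (Sylow 2 X)).ker = ⊥ :=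
      (inferInstance : (MulAction.toPermHom X (Sylow 2 X)).ker.Normal).eq_bot_or_eq_top.resolve_right fun e => by
        obtain ⟨a, ha, ha2⟩ := hinvol S
        refine hH.1 (eq_top_iff.mpr fun g _ => ?_)
        exact Sylow.smul_eq_iff_mem_normalizer.mp
          (DFunLike.congr_fun (MonoidHom.mem_ker.mp (e ▸ mem_top g)) P)
    exact ⟨fun {g g'} hgg => (MonoidHom.ker_eq_bot_iff _).mp hk (Equiv.ext hgg)⟩
  obtain ⟨u, hu, hu2⟩ := hinvol S
  obtain ⟨w, hw, hw2, hwu⟩ := htwo S u hu hu2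
  obtain ⟨T, hT⟩ : ∃ T : Sylow 2 X, T ≠ S := CI.exists_ne_sylow hna S fun e => by
    rw [e, mem_bot] at hu
    exact ne_one_of_orderOf_two hu2 hu
  obtain ⟨t, ht, ht2⟩ : ∃ t : X, orderOf t = 2 ∧ t • S ≠ S := by
    obtain ⟨g, rfl⟩ := MulAction.exists_smul_eq X S T
    refine ⟨g * u * g⁻¹, (orderOf_conj_eq g u).trans hu2, fun e => hT ?_⟩
    have hN := Sylow.smul_eq_iff_mem_normalizer.mp e
    have hle := mem_of_mem_normalizer S (IsPGroup.of_card (n := 1)
      (show Nat.card ↥(zpowers (g * u * g⁻¹)) = 2 ^ 1 by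
        rw [Nat.card_zpowers, orderOf_conj_eq, hu2, pow_one])) (zpowers_le.mpr hN) (mem_zpowers _)
    exact huniq _ ((orderOf_conj_eq g u).trans hu2) _ _ (conj_mem_sylow_iff.mpr hu) hle
  have htwoTr : MulAction.IsMultiplyPretransitive X (Sylow 2 X) 2 := by
    rw [MulAction.is_two_pretransitive_iff]
    intro a b c d hab' hcd
    obtain ⟨g, rfl⟩ := MulAction.exists_smul_eq X a c
    obtain ⟨y, hy, e⟩ := htrans (g • a) (g • b) d
      (fun e => hab' (MulAction.injective g e).symm) hcd.symm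
    refine ⟨y * g, ?_, by rw [mul_smul, e]⟩
    rw [mul_smul, Sylow.smul_eq_iff_mem_normalizer.mpr (le_normalizer hy)]
  have hS : Cfsg.IsRankOneSetup X (Sylow 2 X) S t (S : Subgroup X) := by
    refine ⟨htwoTr, sq_of_orderOf_two ht, ne_one_of_orderOf_two ht,
      fun e => ht2 (MulAction.mem_stabilizer_iff.mp e),
      fun s hs => MulAction.mem_stabilizer_iff.mpr (Sylow.smul_eq_iff_mem_normalizer.mpr (le_normalizer hs)),
      fun h hh y hy => (mem_normalizer_iff.mp
        (Sylow.smul_eq_iff_mem_normalizer.mp (MulAction.mem_stabilizer_iff.mp hh)) y).mp hy, ?_, ?_, ?_, ?_⟩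
    · refine le_bot_iff.mp fun y ⟨hy, hy'⟩ => ?_
      rw [← hti S (t • S) (Ne.symm ht2)]
      refine ⟨hy, mem_of_mem_normalizer (t • S) (S.isPGroup'.to_le (inf_le_left (b :=
        normalizer (((t • S : Sylow 2 X) : Subgroup X) : Set X)))) inf_le_right
        ⟨hy, Sylow.smul_eq_iff_mem_normalizer.mp (MulAction.mem_stabilizer_iff.mp hy')⟩⟩
    · refine le_antisymm (sup_le (fun s hs => MulAction.mem_stabilizer_iff.mpr
        (Sylow.smul_eq_iff_mem_normalizer.mpr (le_normalizer hs))) inf_le_left) fun g hg => ?_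
      have hgS := MulAction.mem_stabilizer_iff.mp hg
      obtain ⟨y, hy, e⟩ := htrans S (g • t • S) (t • S)
        (fun e => ht2 (MulAction.injective g (e.trans hgS.symm))) ht2
      rw [show g = y⁻¹ * (y * g) by group]
      refine mul_mem_sup (inv_mem hy) ⟨MulAction.mem_stabilizer_iff.mpr ?_, MulAction.mem_stabilizer_iff.mpr ?_⟩
      · rw [mul_smul, hgS, Sylow.smul_eq_iff_mem_normalizer.mpr (le_normalizer hy)]
      · rw [mul_smul, e]
    · exact even_iff_two_dvd.mpr ((dvd_of_eq hu2.symm).trans ((S : Subgroup X).orderOf_dvd_natCard hu))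
    · rw [← Nat.not_even_iff_odd, even_iff_two_dvd]
      intro hd
      obtain ⟨y, hy⟩ := exists_prime_orderOf_dvd_card' 2 hd
      have hy2 : orderOf (y : X) = 2 := (Subgroup.orderOf_coe y).trans hy
      have hyp : IsPGroup 2 ↥(zpowers (y : X)) := IsPGroup.of_card (n := 1)
        (by rw [Nat.card_zpowers, hy2, pow_one])
      have hin : ∀ U : Sylow 2 X, (y : X) • U = U → (y : X) ∈ (U : Subgroup X) := fun U hU =>
        mem_of_mem_normalizer U hyp (zpowers_le.mpr (Sylow.smul_eq_iff_mem_normalizer.mp hU)) (mem_zpowers _)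
      exact ht2 (huniq (y : X) hy2 S (t • S) (hin S (MulAction.mem_stabilizer_iff.mp y.2.1))
        (hin _ (MulAction.mem_stabilizer_iff.mp y.2.2))).symm
  obtain ⟨Q, hQ⟩ : ∃ Q : Sylow 2 ↥(S : Subgroup X), (Q : Subgroup ↥(S : Subgroup X)) = ⊤ := by
    obtain ⟨Q⟩ : Nonempty (Sylow 2 ↥(S : Subgroup X)) := inferInstance
    exact ⟨Q, (Q.3 (S.isPGroup'.of_equiv topEquiv.symm) le_top).symm⟩
  have hcomm : Commute u w ∨ ∃ z : X, z ∈ (S : Subgroup X) ∧ orderOf z = 2 ∧ z ≠ u ∧ Commute u z := by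
    by_cases huw : Commute u w
    · exact Or.inl huw
    refine Or.inr ?_
    haveI : Nontrivial ↥(S : Subgroup X) := (nontrivial_iff_ne_bot _).mpr fun e => by
      rw [e, mem_bot] at hu
      exact ne_one_of_orderOf_two hu2 hu
    haveI := S.isPGroup'.center_nontrivial
    obtain ⟨n, hn, hc⟩ := (S.isPGroup'.to_subgroup (center ↥(S : Subgroup X))).nontrivial_iff_card.mp inferInstance
    obtain ⟨z, hz⟩ := exists_prime_orderOf_dvd_card' (G := center ↥(S : Subgroup X)) 2 (hc ▸ dvd_pow_self 2 hn.ne')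
    have hzc : ∀ s ∈ (S : Subgroup X), Commute s ((z : ↥(S : Subgroup X)) : X) := fun s hs =>
      congrArg Subtype.val (mem_center_iff.mp z.2 ⟨s, hs⟩)
    refine ⟨_, (z : ↥(S : Subgroup X)).2, by rw [Subgroup.orderOf_coe, Subgroup.orderOf_coe, hz], ?_, hzc u hu⟩
    intro e
    exact huw (e ▸ (hzc w hw).symm)
  have h2 : ∃ x y : X, x ≠ 1 ∧ y ≠ 1 ∧ x ≠ y ∧ x * x = 1 ∧ y * y = 1 ∧ x * y = y * x := by
    rcases hcomm with hc | ⟨z, -, hz2, hzu, hc⟩
    · exact ⟨u, w, ne_one_of_orderOf_two hu2, ne_one_of_orderOf_two hw2, hwu.symm, sq_of_orderOf_two hu2,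
        sq_of_orderOf_two hw2, hc.eq⟩
    · exact ⟨u, z, ne_one_of_orderOf_two hu2, ne_one_of_orderOf_two hz2, hzu.symm, sq_of_orderOf_two hu2,
        sq_of_orderOf_two hz2, hc.eq⟩
  have hQmem : ∀ y, y ∈ (S : Subgroup X) → ∃ q : ↥(Q : Subgroup ↥(S : Subgroup X)), ((q : ↥(S : Subgroup X)) : X) = y :=
    fun y hy => ⟨⟨⟨y, hy⟩, hQ ▸ mem_top _⟩, rfl⟩
  rcases S1132.result hS h2 Q with hcom | hsuz
  · refine hab S ⟨⟨fun a b => ?_⟩⟩ x hx
    obtain ⟨qa, ea⟩ := hQmem a a.2
    obtain ⟨qb, eb⟩ := hQmem b b.2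
    have := congrArg (fun q : ↥(Q : Subgroup ↥(S : Subgroup X)) => ((q : ↥(S : Subgroup X)) : X))
      (hcom.is_comm.comm qa qb)
    refine Subtype.ext ?_
    simpa [ea, eb] using this
  · obtain ⟨qx, ex⟩ := hQmem x hx
    have hqc : qx ∈ center ↥(Q : Subgroup ↥(S : Subgroup X)) := mem_center_iff.mpr fun q => by
      refine Subtype.ext (Subtype.ext ?_)
      simpa [ex] using hxc _ (q : ↥(S : Subgroup X)).2
    have := congrArg (fun q : ↥(Q : Subgroup ↥(S : Subgroup X)) => ((q : ↥(S : Subgroup X)) : X))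
      ((S1137.result hsuz).2 qx hqc)
    simpa [ex] using this

/-- Only the identity fixes every Sylow 2-subgroup. -/
theorem eq_one_of_fixes (S : Sylow 2 X) (hS : ∃ T : Sylow 2 X, T ≠ S) {g : X}
    (hg : ∀ T : Sylow 2 X, g • T = T) : g = 1 := by
  have hmem : g ∈ (MulAction.toPermHom X (Sylow 2 X)).ker := MonoidHom.mem_ker.mpr (Equiv.ext hg)
  rcases (inferInstance : (MulAction.toPermHom X (Sylow 2 X)).ker.Normal).eq_bot_or_eq_top with e | e
  · rwa [e, mem_bot] at hmem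
  · exfalso
    obtain ⟨T, hT⟩ := hS
    obtain ⟨k, rfl⟩ := MulAction.exists_smul_eq X S T
    exact hT (DFunLike.congr_fun (MonoidHom.mem_ker.mp (e ▸ mem_top k)) S)

/-- A Sylow 2-subgroup contains its centraliser. -/
theorem SylowFacts.centralizer_le (hf : SylowFacts X) (S : Sylow 2 X) (hS : ∃ T : Sylow 2 X, T ≠ S) {d : X}
    (hd : ∀ s ∈ (S : Subgroup X), Commute s d) : d ∈ (S : Subgroup X) := by
  obtain ⟨e, m, hodd, hdm⟩ : ∃ e m : ℕ, ¬ 2 ∣ m ∧ orderOf d = 2 ^ e * m :=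
    Nat.exists_eq_pow_mul_and_not_dvd (orderOf_pos d).ne' 2 (by norm_num)
  set d' := d ^ 2 ^ e with hd'
  have hd'm : d' ^ m = 1 := by rw [hd', ← pow_mul, ← hdm, pow_orderOf_eq_one]
  have hd'1 : d' = 1 := by
    have hdS : d' • S = S := Sylow.smul_eq_iff_mem_normalizer.mpr (centralizer_le_normalizer _
      (mem_centralizer_iff.mpr fun s hs => ((hd s hs).pow_right _).eq))
    refine eq_one_of_fixes S hS fun T => ?_
    by_cases hT : T = S
    · rw [hT, hdS]
    obtain ⟨y, hy, hyT⟩ := hf.trans S T (d' • T) hT fun e => hT (MulAction.injective d' (e.trans hdS.symm))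
    have hcomm : Commute y d' := (hd y hy).pow_right _
    have hpow : ∀ i : ℕ, y ^ i • T = d' ^ i • T := by
      intro i
      induction i with
      | zero => simp only [pow_zero]
      | succ i ih => rw [pow_succ, mul_smul, hyT, ← mul_smul, ← (hcomm.pow_left i).eq.symm, mul_smul,
          ih, ← mul_smul, ← pow_succ']
    have hfix : y ^ m • T = T := by rw [hpow, hd'm, one_smul]
    obtain ⟨k, hk⟩ := S.isPGroup' ⟨y, hy⟩
    have hk' : y ^ 2 ^ k = 1 := congrArg Subtype.val hk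
    have hyk : IsPGroup 2 ↥(zpowers (y ^ m)) := (S.isPGroup'.to_le (zpowers_le.mpr (pow_mem hy m)))
    have hym : y ^ m = 1 := by
      rw [← mem_bot, ← hf.ti S T (Ne.symm hT)]
      exact ⟨pow_mem hy m, mem_of_mem_normalizer T hyk
        (zpowers_le.mpr (Sylow.smul_eq_iff_mem_normalizer.mp hfix)) (mem_zpowers _)⟩
    have hy1 : y = 1 := orderOf_eq_one_iff.mp (Nat.eq_one_of_dvd_coprimes
      ((Nat.prime_two.coprime_iff_not_dvd.mpr hodd).pow_left k) (orderOf_dvd_of_pow_eq_one hk')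
      (orderOf_dvd_of_pow_eq_one hym))
    rw [← hyT, hy1, one_smul]
  exact mem_of_mem_normalizer S (CI.isPGroup_zpowers (k := e) hd'1)
    (zpowers_le.mpr (centralizer_le_normalizer _ (mem_centralizer_iff.mpr fun s hs => (hd s hs).eq)))
    (mem_zpowers d)

end Cfsg.Agent.H91.RO
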